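import Mathlib
import Cfsg.Agent.Mrg.Omega.TitsAmal.Tri
import Cfsg.Agent.Classification.TitsFin.TriPair
import Cfsg.Agent.MinSimple.Killing
import Cfsg.Agent.MinSimple.VModule
import Cfsg.Agent.Solvable.Glauberman
import Cfsg.Agent.Mrg.Omega.FFMutual

section


/-!
# Sections (A6)-(A9) of the blueprint `P21-FIN-helper531.md`

`Q_p / K_p` is the full group `Hom(U_p / ⟨p⟩, ⟨p⟩)`, `K_p`, `Q_p`, `C_G(V)` are 2-groups, `[K_p, X_p] ≤ U_p`, the
killing lemma (N) for `X_p`, `X_q`, and `|C_p / Q_p| = 20`.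
-/

set_option autoImplicit false
set_option linter.unusedSectionVars false
set_option linter.unusedVariables false

namespace Cfsg.Agent.Omega.TitsAmal.TriQK

open Subgroup Cfsg Cfsg.Agent.ZN Cfsg.Agent.MinSimple.Geo
open scoped commutatorElement
open Cfsg.Agent.Omega.TitsAmal.Tri (Pt kst K Q)
open Cfsg.Agent.Omega.TitsAmal.TriAct
open Cfsg.Agent.MinSimple.VModule (oddGen mem_oddGen oddGen_def oddGen_le le_normalizer_oddGen)
open Cfsg.Agent.ZN.Block (conj_mem_of_normalizer conj_mem_of_normalizer' le_normalizer_of_forall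
  mem_normalizer_of card_sup_mul_card_inf card_mul_relIndex' mul_mem_of_relIndex_two o2_le o2_conj o2_isPGroup
  le_o2 le_normalizer_o2)
open Cfsg.Agent.MinSimple.Killing (ncl conj_mem_ncl self_mem_ncl ncl_mono ncl_le ncl_le_of_conj
  conj_mem_of_mem_ncl killing killing_local)
open Cfsg.Agent.Classification.TitsFin.TriPair (Pairing)

universe u

variable {G : Type u} [Group G] [Finite G] {V : Subgroup G} {U C : G → Subgroup G} {p q : G}

theorem inf_mk {A B : Subgroup G} {x : G} (h1 : x ∈ A) (h2 : x ∈ B) : x ∈ A ⊓ B := ⟨h1, h2⟩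

/-! ### (A6) -/

theorem pairing (h : Tri V U C) (hp : Pt V p) : Pairing (Q U C p) (U p) p where
  pp := h.pp hp
  pU := h.p_mem hp hp
  comm := fun u hu v hv => h.commU hp hu hv
  sq := fun u hu => h.sqU p hp u hu
  Np := fun n hn => h.c_comm hp hn.1
  act := fun n hn u hu => ((h.mem_Q_iff hp).mp hn).2 u hu

/-- another point of `V` -/
theorem exists_other (h : Tri V U C) (hp : Pt V p) : ∃ q, Pt V q ∧ p ≠ q := by
  by_contra hcon
  push Not at hcon
  have h1 : V ≤ zpowers p := by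
    intro v hv
    by_cases hv1 : v = 1
    · rw [hv1]; exact one_mem _
    · rw [← hcon v ⟨hv, hv1⟩]; exact mem_zpowers p
  have h2 := Subgroup.card_le_of_le h1
  rw [h.cardV] at h2
  have h3 : Nat.card (zpowers p) ≤ 2 := by
    rw [Nat.card_zpowers]
    exact orderOf_le_of_pow_eq_one (by norm_num) (by rw [pow_two]; exact h.pp hp)
  omega

/-- `f`-invariant subgroups of `U_p` which contain `p` and are moved by something -/
theorem fixed_of_inv (h : Tri V U C) (hp : Pt V p) {f : G} (hf : IsF U C p f) {N : Subgroup G}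
    (hN : N ≤ C p) (hinv : ∀ b ∈ N, f * b * f⁻¹ ∈ N) {n v : G} (hn : n ∈ N) (hv : v ∈ U p)
    (hnv : n * v ≠ v * n) : ∀ u ∈ U p, (∀ n ∈ N, n * u = u * n) → u = 1 ∨ u = p := by
  -- `f` normalises `N`
  have hinv' : ∀ b ∈ N, f⁻¹ * b * f ∈ N := by
    intro b hb
    have e1 : cj f N ≤ N := by
      rintro _ ⟨b, hb, rfl⟩
      exact hinv b hb
    have e2 : cj f N = N := SetLike.coe_injective
      (Set.Finite.eq_of_subset_of_card_le (Set.toFinite (N : Set G)) e1 (by
        have := card_cj f N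
        exact this.ge))
    have e3 : b ∈ cj f N := by rw [e2]; exact hb
    exact mem_cj.mp e3
  let B : Subgroup G := U p ⊓ centralizer (N : Set G)
  have hB : ∀ b ∈ B, f * b * f⁻¹ ∈ B := by
    rintro b ⟨hb1, hb2⟩
    refine ⟨h.conj_memU hp hf.mem hb1, mem_centralizer_iff.mpr fun n hn => ?_⟩
    have e := mem_centralizer_iff.mp hb2 _ (hinv' n hn)
    calc n * (f * b * f⁻¹) = f * ((f⁻¹ * n * f) * b) * f⁻¹ := by group
      _ = f * (b * (f⁻¹ * n * f)) * f⁻¹ := by rw [e]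
      _ = f * b * f⁻¹ * n := by group
  have hpB : p ∈ B := ⟨h.p_mem hp hp, mem_centralizer_iff.mpr fun n hn => h.c_comm hp (hN hn)⟩
  rcases IsF.irred h hp hf inf_le_left hpB hB with h1 | h1
  · intro u hu hc
    exact h1 u ⟨hu, mem_centralizer_iff.mpr hc⟩
  · exfalso
    have h2 : v ∈ U p ⊓ centralizer (N : Set G) := by rw [h1]; exact hv
    exact hnv (mem_centralizer_iff.mp h2.2 n hn)

/-- a mover -/
theorem exists_mover' (h : Tri V U C) (hp : Pt V p) :
    ∃ a ∈ Q U C p, ∃ b ∈ U p, a * b * a⁻¹ = p * b := by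
  obtain ⟨q, hq, hpq⟩ := exists_other h hp
  obtain ⟨a, ha, b, hb, hab⟩ := exists_mover h hp hq hpq
  exact ⟨a, ha.2, b, hb, hab⟩

theorem ne_of_mover (hp : Pt V p) {a b : G} (hab : a * b * a⁻¹ = p * b) : a * b ≠ b * a := by
  intro e
  rw [e, mul_inv_cancel_right] at hab
  exact hp.2 (mul_eq_right.mp hab.symm)

/-- `C_{U_p}(Q_p) = ⟨p⟩` -/
theorem cent_Q (h : Tri V U C) (hp : Pt V p) : ∀ u ∈ U p, (∀ n ∈ Q U C p, n * u = u * n) → u = 1 ∨ u = p := by
  obtain ⟨f, hf⟩ := exists_isF h hp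
  obtain ⟨a, ha, b, hb, hab⟩ := exists_mover' h hp
  exact fixed_of_inv h hp hf (Tri.kst_le _ _ _) (fun b hb => conj_mem_of_normalizer (h.C_le_normQ hp) hf.mem hb)
    ha hb (ne_of_mover hp hab)

/-- the double centraliser property for `Q_p` on `U_p` -/
theorem dc (h : Tri V U C) (hp : Pt V p) {B : Subgroup G} (hpB : p ∈ B) (hB : B ≤ U p) {e : G} (he : e ∈ U p)
    (heB : e ∉ B) : ∃ n ∈ Q U C p, (∀ b ∈ B, n * b = b * n) ∧ n * e * n⁻¹ = p * e := by
  refine (pairing h hp).dc ?_ hB he heB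
  rintro u ⟨hu, hc⟩
  rcases cent_Q h hp u hu (mem_centralizer_iff.mp hc) with rfl | rfl
  · exact one_mem _
  · exact hpB

theorem mem_zpowers_p (h : Tri V U C) (hp : Pt V p) {u : G} : u ∈ zpowers p ↔ u = 1 ∨ u = p :=
  mem_zpowers_iff_of_mul_self (h.pp hp)

/-- (A6) (i) -/
theorem exists_move (h : Tri V U C) (hp : Pt V p) {u : G} (hu : u ∈ U p) (hu1 : u ≠ 1) (hup : u ≠ p) :
    ∃ c ∈ Q U C p, c * u * c⁻¹ = p * u := by
  obtain ⟨n, hn, -, h2⟩ := dc h hp (B := zpowers p) (mem_zpowers p)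
    (by rw [zpowers_le]; exact h.p_mem hp hp) hu (by
      rw [mem_zpowers_p h hp]; push Not; exact ⟨hu1, hup⟩)
  exact ⟨n, hn, h2⟩

/-- elements outside `V` are moved by elements of `Q_p ⊓ C_G(V)` -/
theorem exists_move_V (h : Tri V U C) (hp : Pt V p) {e : G} (he : e ∈ U p) (heV : e ∉ V) :
    ∃ c ∈ Q U C p, c ∈ centralizer (V : Set G) ∧ c * e * c⁻¹ = p * e := by
  obtain ⟨n, hn, h1, h2⟩ := dc h hp (B := V) hp.1 (h.V_le p hp) he heV
  exact ⟨n, hn, mem_centralizer_iff.mpr fun v hv => (h1 v hv).symm, h2⟩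

theorem exists_E (h : Tri V U C) (hp : Pt V p) (hq : Pt V q) (hpq : p ≠ q) : ∃ e ∈ U p ⊓ U q, e ∉ V := by
  by_contra hcon
  push Not at hcon
  have h1 : U p ⊓ U q ≤ V := hcon
  have h2 := Subgroup.card_le_of_le h1
  rw [card_E h hp hq hpq, h.cardV] at h2
  omega

/-- (A6) (ii) -/
theorem exists_move_E (h : Tri V U C) (hp : Pt V p) (hq : Pt V q) (hpq : p ≠ q) :
    ∃ c ∈ Q U C p, c ∈ centralizer (V : Set G) ∧ ∃ e ∈ U p ⊓ U q, c * e * c⁻¹ = p * e := by
  obtain ⟨e, he, heV⟩ := exists_E h hp hq hpq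
  obtain ⟨c, h1, h2, h3⟩ := exists_move_V h hp he.1 heV
  exact ⟨c, h1, h2, e, he, h3⟩

theorem card_aux (h : Tri V U C) (hp : Pt V p) {N : Subgroup G} (hN : N ≤ Q U C p) (hKN : K U p ≤ N)
    (hc : ∀ u ∈ U p, (∀ n ∈ N, n * u = u * n) → u = 1 ∨ u = p) : Nat.card N = 16 * Nat.card (K U p) := by
  have h1 := ((pairing h hp).mono hN).card_eq
  have h2 : U p ⊓ centralizer (N : Set G) = zpowers p := by
    apply le_antisymm
    · rintro u ⟨hu, hu2⟩
      exact (mem_zpowers_p h hp).mpr (hc u hu (mem_centralizer_iff.mp hu2))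
    · rw [zpowers_le]
      exact ⟨h.p_mem hp hp, mem_centralizer_iff.mpr fun n hn => h.c_comm hp (hN hn).1⟩
  have h3 : Nat.card (zpowers p) = 2 := by
    rw [Nat.card_zpowers]
    exact orderOf_eq_prime (by rw [pow_two]; exact h.pp hp) hp.2
  have h4 : N ⊓ centralizer (U p : Set G) = K U p := inf_eq_right.mpr hKN
  rw [h2, h3, h4, h.cardU p hp] at h1
  omega

theorem card_Q (h : Tri V U C) (hp : Pt V p) : Nat.card (Q U C p) = 16 * Nat.card (K U p) :=
  card_aux h hp le_rfl (h.K_le_Q hp) (cent_Q h hp)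

/-- (A6) (iii) -/
theorem relIndex_K (h : Tri V U C) (hp : Pt V p) : (K U p).relIndex (Q U C p) = 16 := by
  have h1 := card_mul_relIndex' (h.K_le_Q hp (C := C))
  rw [card_Q h hp, mul_comm] at h1
  exact Nat.eq_of_mul_eq_mul_right Nat.card_pos h1

/-- (A6) (iii) -/
theorem irred (h : Tri V U C) (hp : Pt V p) {f : G} (hf : IsF U C p f) {N : Subgroup G} (hKN : K U p ≤ N)
    (hN : N ≤ Q U C p) (hinv : ∀ b ∈ N, f * b * f⁻¹ ∈ N) : N = K U p ∨ N = Q U C p := by
  by_cases hex : ∀ n ∈ N, ∀ v ∈ U p, n * v = v * n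
  · left
    exact le_antisymm (fun n hn => mem_centralizer_iff.mpr fun v hv => (hex n hn v hv).symm) hKN
  · right
    push Not at hex
    obtain ⟨n, hn, v, hv, hnv⟩ := hex
    have h1 := card_aux h hp hN hKN (fixed_of_inv h hp hf (hN.trans (Tri.kst_le _ _ _)) hinv hn hv hnv)
    rw [← card_Q h hp] at h1
    exact SetLike.coe_injective (Set.Finite.eq_of_subset_of_card_le (Set.toFinite _) hN h1.ge)


/-! ### (A7) -/

/-- `(y z)ⁿ ∈ N zⁿ` -/
theorem pow_mul_mem {N : Subgroup G} {y z : G} (hy : y ∈ N) (hz : ∀ n ∈ N, z * n * z⁻¹ ∈ N) (n : ℕ) :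
    (y * z) ^ n * (z ^ n)⁻¹ ∈ N := by
  induction n with
  | zero => simp
  | succ n ih =>
    have e : (y * z) ^ (n + 1) * (z ^ (n + 1))⁻¹ = y * (z * ((y * z) ^ n * (z ^ n)⁻¹) * z⁻¹) := by
      rw [pow_succ', pow_succ']; group
    rw [e]
    exact mul_mem hy (hz _ ih)

theorem isF_of (h : Tri V U C) (hp : Pt V p) {f g : G} (hf : IsF U C p f) (hg : g ∈ C p)
    (ho : Odd (orderOf g)) (hgQ : g ∉ Q U C p) : IsF U C p g := by
  refine ⟨hg, ho, hgQ, ?_⟩
  obtain ⟨k, -, hk⟩ := IsF.of_odd h hp hf hg ho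
  have hfk : f ^ k ∈ C p := pow_mem hf.mem k
  have h1 := pow_mul_mem (N := Q U C p) (y := g * (f ^ k)⁻¹) (z := f ^ k) hk
    (fun n hn => conj_mem_of_normalizer (h.C_le_normQ hp) hfk hn) 5
  rw [inv_mul_cancel_right, ← pow_mul, mul_comm k 5, pow_mul] at h1
  have h3 := mul_mem h1 (pow_mem hf.pow k)
  rwa [inv_mul_cancel_right] at h3

/-- elements of odd order of `Q_p` centralise `U_p` -/
theorem mem_K_of_odd (h : Tri V U C) (hp : Pt V p) {g : G} (hg : g ∈ Q U C p) (ho : Odd (orderOf g)) :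
    g ∈ K U p := by
  have h1 : g ^ 2 ∈ K U p := by
    refine mem_centralizer_iff.mpr fun u hu => ?_
    have h2 := ((h.mem_Q_iff hp).mp hg).2
    have hc := h.c_comm hp hg.1
    have h3 : g ^ 2 * u * (g ^ 2)⁻¹ = u := by
      have e : g ^ 2 * u * (g ^ 2)⁻¹ = g * (g * u * g⁻¹) * g⁻¹ := by rw [pow_two]; group
      rw [e]
      rcases h2 u hu with h4 | h4
      · rw [h4, h4]
      · rw [h4]
        calc g * (p * u) * g⁻¹ = (g * p) * g⁻¹ * (g * u * g⁻¹) := by group
          _ = p * (p * u) := by rw [hc, mul_inv_cancel_right, h4]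
          _ = u := by rw [← mul_assoc, h.pp hp, one_mul]
    rw [mul_inv_eq_iff_eq_mul] at h3
    exact h3.symm
  obtain ⟨m, hm⟩ := exists_pow_eq_self_of_coprime (n := 2) (x := g)
    (Nat.coprime_two_left.mpr ho)
  rw [← hm]
  exact pow_mem h1 m

/-- elements of odd order of `C_G(V)` lie in `K_p` -/
theorem mem_K_of_odd_centV (h : Tri V U C) (hp : Pt V p) {g : G} (hg : g ∈ centralizer (V : Set G))
    (ho : Odd (orderOf g)) : g ∈ K U p := by
  by_cases hgQ : g ∈ Q U C p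
  · exact mem_K_of_odd h hp hgQ ho
  exfalso
  obtain ⟨f, hf⟩ := exists_isF h hp
  have h1 := isF_of h hp hf (h.centV_le hp hg) ho hgQ
  obtain ⟨q, hq, hpq⟩ := exists_other h hp
  rcases IsF.fixed h hp h1 (h.p_mem hq hp) (Or.inl (by
    rw [← mem_centralizer_iff.mp hg q hq.1, mul_inv_cancel_right])) with h2 | h2
  · exact hq.2 h2
  · exact hpq h2.symm

theorem oddGen_eq (h : Tri V U C) (hp : Pt V p) : oddGen (centralizer (V : Set G)) = oddGen (K U p) := by
  apply le_antisymm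
  · rw [oddGen_def, closure_le]
    rintro g ⟨hg, ho⟩
    exact mem_oddGen (mem_K_of_odd_centV h hp hg ho) ho
  · exact Cfsg.Agent.MinSimple.VModule.oddGen_mono (h.K_le_centV hp)

theorem C_le_normO (h : Tri V U C) (hp : Pt V p) :
    C p ≤ normalizer (oddGen (centralizer (V : Set G)) : Set G) := by
  rw [oddGen_eq h hp]
  exact (h.C_le_normK hp).trans (Cfsg.Agent.MinSimple.VModule.normalizer_le_normalizer_oddGen _)

/-! the normal closure of a point -/

section ncl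

variable {X : Subgroup G}

/-- `X ⊓ Q_p` does not centralise `U_p` -/
theorem exists_mem_X (h : Tri V U C) (hp : Pt V p) (hX : X ≤ C p) (hn : C p ≤ normalizer (X : Set G))
    {f : G} (hf : IsF U C p f) (hfX : f ∈ X) : ∃ x ∈ X ⊓ Q U C p, ∃ v ∈ U p, x * v ≠ v * x := by
  by_contra hcon
  push Not at hcon
  have hXK : ∀ x ∈ X ⊓ Q U C p, ∀ v ∈ U p, x * v = v * x := hcon
  obtain ⟨y, hy, b, hb, hab⟩ := exists_mover' h hp
  have hyb := ne_of_mover hp hab
  let B : Subgroup G := U p ⊓ centralizer ({y} : Set G)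
  have hpB : p ∈ B := ⟨h.p_mem hp hp, mem_centralizer_singleton_iff.mpr (h.c_comm hp hy.1).symm⟩
  have hk : y * f * y⁻¹ * f⁻¹ ∈ X ⊓ Q U C p := by
    refine inf_mk (mul_mem (conj_mem_of_normalizer hn hy.1 hfX) (inv_mem hfX)) ?_
    have e : y * f * y⁻¹ * f⁻¹ = y * (f * y⁻¹ * f⁻¹) := by group
    rw [e]
    exact mul_mem hy (conj_mem_of_normalizer (h.C_le_normQ hp) hf.mem (inv_mem hy))
  have hB : ∀ b ∈ B, f * b * f⁻¹ ∈ B := by
    rintro u ⟨hu1, hu2⟩
    have hu3 : f * u * f⁻¹ ∈ U p := h.conj_memU hp hf.mem hu1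
    have hu4 := mem_centralizer_singleton_iff.mp hu2
    refine ⟨hu3, mem_centralizer_singleton_iff.mpr ?_⟩
    have h1 := hXK _ hk _ hu3
    have h2 : y * (f * u * f⁻¹) * y⁻¹ = f * u * f⁻¹ := by
      calc y * (f * u * f⁻¹) * y⁻¹ = (y * f * y⁻¹ * f⁻¹) * (f * (y * u) * y⁻¹ * f⁻¹) *
            (y * f * y⁻¹ * f⁻¹)⁻¹ := by group
        _ = (y * f * y⁻¹ * f⁻¹) * (f * (u * y) * y⁻¹ * f⁻¹) * (y * f * y⁻¹ * f⁻¹)⁻¹ := by rw [hu4]
        _ = ((y * f * y⁻¹ * f⁻¹) * (f * u * f⁻¹)) * (y * f * y⁻¹ * f⁻¹)⁻¹ := by group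
        _ = f * u * f⁻¹ := by rw [h1, mul_inv_cancel_right]
    exact (mul_inv_eq_iff_eq_mul.mp h2).symm
  rcases IsF.irred h hp hf inf_le_left hpB hB with h1 | h1
  · -- too many fixed elements
    obtain ⟨q, hq, hpq⟩ := exists_other h hp
    obtain ⟨e, he, heV⟩ := exists_E h hp hq hpq
    have hqU := h.p_mem hq hp
    have hno : ∀ u ∈ U p, u ≠ 1 → u ≠ p → y * u * y⁻¹ = p * u := by
      intro u hu h2 h3
      rcases ((h.mem_Q_iff hp).mp hy).2 u hu with h4 | h4
      · exfalso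
        rcases h1 u ⟨hu, mem_centralizer_singleton_iff.mpr (mul_inv_eq_iff_eq_mul.mp h4).symm⟩ with h5 | h5
        · exact h2 h5
        · exact h3 h5
      · exact h4
    have h2 := hno q hqU hq.2 hpq.symm
    have h3 := hno e he.1 (fun h5 => heV (by rw [h5]; exact one_mem _)) (fun h5 => heV (by rw [h5]; exact hp.1))
    have h4 : y * (q * e) * y⁻¹ = q * e := by
      calc y * (q * e) * y⁻¹ = (y * q * y⁻¹) * (y * e * y⁻¹) := by group
        _ = (p * q) * (p * e) := by rw [h2, h3]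
        _ = (q * p) * (p * e) := by rw [h.commV hp hq]
        _ = q * (p * p) * e := by group
        _ = q * e := by rw [h.pp hp, mul_one]
    have hqe : q * e ∉ V := fun h5 => heV (by
      have := mul_mem (inv_mem hq.1) h5
      rwa [inv_mul_cancel_left] at this)
    rcases h1 _ ⟨mul_mem hqU he.1, mem_centralizer_singleton_iff.mpr (mul_inv_eq_iff_eq_mul.mp h4).symm⟩ with h5 | h5
    · exact hqe (by rw [h5]; exact one_mem _)
    · exact hqe (by rw [h5]; exact hp.1)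
  · have h2 : b ∈ U p ⊓ centralizer ({y} : Set G) := by rw [h1]; exact hb
    exact hyb (mem_centralizer_singleton_iff.mp h2.2).symm

/-- a mover in `X ⊓ Q_p` -/
theorem exists_move_X (h : Tri V U C) (hp : Pt V p) (hX : X ≤ C p) (hn : C p ≤ normalizer (X : Set G))
    {f : G} (hf : IsF U C p f) (hfX : f ∈ X) {u : G} (hu : u ∈ U p) (hu1 : u ≠ 1) (hup : u ≠ p) :
    ∃ x ∈ X ⊓ Q U C p, x * u * x⁻¹ = p * u := by
  obtain ⟨x, hx, v, hv, hxv⟩ := exists_mem_X h hp hX hn hf hfX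
  have h1 := fixed_of_inv h hp hf (N := X ⊓ Q U C p) (inf_le_left.trans hX) (fun b hb =>
    inf_mk (mul_mem (mul_mem hfX hb.1) (inv_mem hfX)) (conj_mem_of_normalizer (h.C_le_normQ hp) hf.mem hb.2))
    hx hv hxv u hu
  by_contra hcon
  push Not at hcon
  refine absurd (h1 fun n hn => ?_) (by push Not; exact ⟨hu1, hup⟩)
  rcases ((h.mem_Q_iff hp).mp hn.2).2 u hu with h2 | h2
  · exact mul_inv_eq_iff_eq_mul.mp h2
  · exact absurd h2 (hcon n hn)

theorem eq_U_of_inv (h : Tri V U C) (hp : Pt V p) {f : G} (hf : IsF U C p f) {B : Subgroup G} (hB : B ≤ U p)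
    (hpB : p ∈ B) (hinv : ∀ b ∈ B, f * b * f⁻¹ ∈ B) {u : G} (hu : u ∈ B) (hu1 : u ≠ 1) (hup : u ≠ p) :
    B = U p := by
  rcases IsF.irred h hp hf hB hpB hinv with h1 | h1
  · rcases h1 u hu with h2 | h2
    · exact absurd h2 hu1
    · exact absurd h2 hup
  · exact h1

/-- `⟨u^X⟩ = U_p` -/
theorem U_le_ncl (h : Tri V U C) (hp : Pt V p) (hX : X ≤ C p) (hn : C p ≤ normalizer (X : Set G))
    {f : G} (hf : IsF U C p f) (hfX : f ∈ X) {u : G} (hu : u ∈ U p) (hu1 : u ≠ 1) (hup : u ≠ p) :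
    U p ≤ ncl X u := by
  obtain ⟨x, hx, hxu⟩ := exists_move_X h hp hX hn hf hfX hu hu1 hup
  have h1 : ncl X u ≤ U p := ncl_le_of_conj hu fun x hx k hk => h.conj_memU hp (hX hx) hk
  have h2 : p ∈ ncl X u := by
    have h3 := mul_mem (conj_mem_ncl (v := u) hx.1) (inv_mem (self_mem_ncl X u))
    rwa [hxu, mul_inv_cancel_right] at h3
  exact (eq_U_of_inv h hp hf h1 h2 (fun b hb => conj_mem_of_mem_ncl hfX hb) (self_mem_ncl X u) hu1 hup).ge

/-- `U_p ≤ X` -/
theorem U_le_X (h : Tri V U C) (hp : Pt V p) (hX : X ≤ C p) (hn : C p ≤ normalizer (X : Set G))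
    {f : G} (hf : IsF U C p f) (hfX : f ∈ X) : U p ≤ X := by
  obtain ⟨q, hq, hpq⟩ := exists_other h hp
  have hqU := h.p_mem hq hp
  obtain ⟨x, hx, hxu⟩ := exists_move_X h hp hX hn hf hfX hqU hq.2 hpq.symm
  have hpX : p ∈ X := by
    have h1 : x * (q * x⁻¹ * q⁻¹) ∈ X := mul_mem hx.1 (conj_mem_of_normalizer hn
      (h.U_le_C hp hp hqU) (inv_mem hx.1))
    have e : x * (q * x⁻¹ * q⁻¹) = (x * q * x⁻¹) * q⁻¹ := by group
    rwa [e, hxu, mul_inv_cancel_right] at h1
  have hfq : f * q * f⁻¹ * q⁻¹ ∈ X ⊓ U p := by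
    refine inf_mk ?_ (mul_mem (h.conj_memU hp hf.mem hqU) (inv_mem hqU))
    have e : f * q * f⁻¹ * q⁻¹ = f * (q * f⁻¹ * q⁻¹) := by group
    rw [e]
    exact mul_mem hfX (conj_mem_of_normalizer hn (h.U_le_C hp hp hqU) (inv_mem hfX))
  have h1 : X ⊓ U p = U p := by
    refine eq_U_of_inv h hp hf inf_le_right ⟨hpX, h.p_mem hp hp⟩ (fun b hb =>
      inf_mk (mul_mem (mul_mem hfX hb.1) (inv_mem hfX)) (h.conj_memU hp hf.mem hb.2)) hfq ?_ ?_
    · intro e
      rcases IsF.fixed h hp hf hqU (Or.inl (mul_inv_eq_one.mp e)) with h2 | h2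
      · exact hq.2 h2
      · exact hpq h2.symm
    · intro e
      rcases IsF.fixed h hp hf hqU (Or.inr (mul_inv_eq_iff_eq_mul.mp e)) with h2 | h2
      · exact hq.2 h2
      · exact hpq h2.symm
  rw [← h1]
  exact inf_le_left

end ncl

theorem p_mem_comm (h : Tri V U C) (hp : Pt V p) (hq : Pt V q) (hpq : p ≠ q) : p ∈ ⁅U p, U q⁆ := by
  obtain ⟨a, ha, b, hb, hab⟩ := exists_mover h hp hq hpq
  rw [commutator_comm]
  have h1 := commutator_mem_commutator ha.1 hb
  rw [commutatorElement_def, hab, mul_inv_cancel_right] at h1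
  exact h1

theorem third_mem_comm (h : Tri V U C) (hp : Pt V p) (hq : Pt V q) (hpq : p ≠ q) : p * q ∈ ⁅U p, U q⁆ := by
  refine mul_mem (p_mem_comm h hp hq hpq) ?_
  rw [commutator_comm]
  exact p_mem_comm h hq hp hpq.symm

theorem oddGen_centV (h : Tri V U C) (hp : Pt V p) : oddGen (centralizer (V : Set G)) = ⊥ := by
  obtain ⟨q, hq, hpq⟩ := exists_other h hp
  obtain ⟨f, hf⟩ := exists_isF h hp
  obtain ⟨g, hg⟩ := exists_isF h hq
  set O := oddGen (centralizer (V : Set G)) with hO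
  have hOC : O ≤ C p := (oddGen_le _).trans (h.centV_le hp)
  have hcj : ∀ c ∈ normalizer (O : Set G), c ∈ normalizer (o2 O : Set G) := by
    intro c hc
    rw [mem_normalizer_iff_cj, cj_o2, mem_normalizer_iff_cj.mp hc]
  have h1 : o2 O = ⊥ := h.nonloc p hp (o2 O) (o2_isPGroup O) (fun c hc => hcj c (C_le_normO h hp hc))
    (((Cfsg.Agent.ZN.Block.le_normalizer_of_forall fun n hn x hx => mem_centralizer_iff.mpr fun v hv => by
      have h8 := mem_centralizer_iff.mp hx (n⁻¹ * v * n) (conj_mem_of_normalizer' (le_refl (normalizer (V : Set G))) hn hv)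
      calc v * (n * x * n⁻¹) = n * ((n⁻¹ * v * n) * x) * n⁻¹ := by group
        _ = n * (x * (n⁻¹ * v * n)) * n⁻¹ := by rw [h8]
        _ = n * x * n⁻¹ * v := by group :
      normalizer (V : Set G) ≤ normalizer (centralizer (V : Set G) : Set G)).trans
      (Cfsg.Agent.MinSimple.VModule.normalizer_le_normalizer_oddGen _)).trans hcj)
  have h2 : O ≤ centralizer (o2 (C p) : Set G) := by
    intro o ho
    refine mem_centralizer_iff.mpr fun w hw => ?_
    have h3 : O ⊓ o2 (C p) ≤ o2 O := by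
      refine Block.le_o2 ((o2_isPGroup (C p)).to_le inf_le_right) inf_le_left
        (le_normalizer_of_forall fun l hl m hm => inf_mk (mul_mem (mul_mem hl hm.1) (inv_mem hl))
          (o2_conj (hOC hl) hm.2))
    have h4 : o * w * o⁻¹ * w⁻¹ ∈ O ⊓ o2 (C p) := by
      refine inf_mk ?_ (mul_mem (o2_conj (hOC ho) hw) (inv_mem hw))
      have e : o * w * o⁻¹ * w⁻¹ = o * (w * o⁻¹ * w⁻¹) := by group
      rw [e]
      exact mul_mem ho (conj_mem_of_normalizer (C_le_normO h hp) (Block.o2_le _ hw) (inv_mem ho))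
    have h5 := h3 h4
    rw [h1, mem_bot, mul_inv_eq_one, mul_inv_eq_iff_eq_mul] at h5
    exact h5.symm
  have h3 : O ≤ o2 (C p) := fun o ho => h.char2 p hp ⟨hOC ho, h2 ho⟩
  have h4 : IsPGroup 2 O := (o2_isPGroup (C p)).to_le h3
  rw [hO, oddGen_def, closure_eq_bot_iff]
  rintro x ⟨hx, ho⟩
  have hxO : x ∈ O := mem_oddGen hx ho
  obtain ⟨k, hk⟩ := h4 ⟨x, hxO⟩
  have hk' : x ^ 2 ^ k = 1 := congrArg Subtype.val hk
  have h5 := orderOf_dvd_of_pow_eq_one hk'
  have h6 : orderOf x = 1 := Nat.Coprime.eq_one_of_dvd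
    (Nat.Coprime.pow_right k (Nat.coprime_two_right.mpr ho)) h5
  exact orderOf_eq_one_iff.mp h6

/-- (A7) -/
theorem isPGroup_centV (h : Tri V U C) (hp : Pt V p) : IsPGroup 2 ↥(centralizer (V : Set G)) := by
  rintro ⟨g, hg⟩
  obtain ⟨a, m, hm, ham⟩ := Nat.exists_eq_two_pow_mul_odd (n := orderOf g) (orderOf_pos g).ne'
  refine ⟨a, Subtype.ext ?_⟩
  change g ^ 2 ^ a = 1
  have h1 : orderOf (g ^ 2 ^ a) = m := by
    rw [orderOf_pow' g (by positivity), ham, Nat.gcd_eq_right (Dvd.intro m rfl),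
      Nat.mul_div_cancel_left m (by positivity)]
  have h2 : g ^ 2 ^ a ∈ oddGen (centralizer (V : Set G)) :=
    mem_oddGen (pow_mem hg _) (by rw [h1]; exact hm)
  rw [oddGen_centV h hp] at h2
  exact mem_bot.mp h2

theorem isPGroup_K (h : Tri V U C) (hp : Pt V p) : IsPGroup 2 ↥(K U p) :=
  (isPGroup_centV h hp).to_le (h.K_le_centV hp)

theorem sq_mem_K (h : Tri V U C) (hp : Pt V p) {g : G} (hg : g ∈ Q U C p) : g ^ 2 ∈ K U p := by
  refine mem_centralizer_iff.mpr fun u hu => ?_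
  have h2 := ((h.mem_Q_iff hp).mp hg).2
  have hc := h.c_comm hp hg.1
  have h3 : g ^ 2 * u * (g ^ 2)⁻¹ = u := by
    have e : g ^ 2 * u * (g ^ 2)⁻¹ = g * (g * u * g⁻¹) * g⁻¹ := by rw [pow_two]; group
    rw [e]
    rcases h2 u hu with h4 | h4
    · rw [h4, h4]
    · rw [h4]
      calc g * (p * u) * g⁻¹ = (g * p) * g⁻¹ * (g * u * g⁻¹) := by group
        _ = p * (p * u) := by rw [hc, mul_inv_cancel_right, h4]
        _ = u := by rw [← mul_assoc, h.pp hp, one_mul]
  rw [mul_inv_eq_iff_eq_mul] at h3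
  exact h3.symm

theorem isPGroup_Q (h : Tri V U C) (hp : Pt V p) : IsPGroup 2 ↥(Q U C p) := by
  rintro ⟨g, hg⟩
  obtain ⟨k, hk⟩ := isPGroup_K h hp ⟨g ^ 2, sq_mem_K h hp hg⟩
  refine ⟨k + 1, Subtype.ext ?_⟩
  have hk' : (g ^ 2) ^ 2 ^ k = 1 := congrArg Subtype.val hk
  change g ^ 2 ^ (k + 1) = 1
  rw [pow_succ', pow_mul, hk']

theorem exists_pow_of_mem_Q (h : Tri V U C) (hp : Pt V p) {g : G} (hg : g ∈ Q U C p) : ∃ n, g ^ 2 ^ n = 1 := by
  obtain ⟨k, hk⟩ := isPGroup_Q h hp ⟨g, hg⟩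
  exact ⟨k, congrArg Subtype.val hk⟩

theorem exists_pow_of_mem_centV (h : Tri V U C) (hp : Pt V p) {g : G} (hg : g ∈ centralizer (V : Set G)) :
    ∃ n, g ^ 2 ^ n = 1 := by
  obtain ⟨k, hk⟩ := isPGroup_centV h hp ⟨g, hg⟩
  exact ⟨k, congrArg Subtype.val hk⟩

theorem eq_one_of_odd {g : G} (ho : Odd (orderOf g)) {n : ℕ} (hn : g ^ 2 ^ n = 1) : g = 1 := by
  have h5 := orderOf_dvd_of_pow_eq_one hn
  have h6 : orderOf g = 1 := Nat.Coprime.eq_one_of_dvd
    (Nat.Coprime.pow_right n (Nat.coprime_two_right.mpr ho)) h5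
  exact orderOf_eq_one_iff.mp h6

theorem mem_of_pow_mem {D : Subgroup G} {g : G} (ho : Odd (orderOf g)) {n : ℕ} (hn : g ^ 2 ^ n ∈ D) : g ∈ D := by
  obtain ⟨m, hm⟩ := exists_pow_eq_self_of_coprime (n := 2 ^ n) (x := g)
    (Nat.Coprime.pow_left n (Nat.coprime_two_left.mpr ho))
  rw [← hm]
  exact pow_mem hn m

/-! ### (A8) -/

/-- (A8) `[K_p, U_q] ≤ E` -/
theorem comm_K_U (h : Tri V U C) (hp : Pt V p) (hq : Pt V q) (hpq : p ≠ q) {k u : G} (hk : k ∈ K U p) (hu : u ∈ U q) :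
    k * u * k⁻¹ * u⁻¹ ∈ U p ⊓ U q := by
  rw [← K_inf_U h hp hq hpq]
  refine inf_mk ?_ (mul_mem (h.conj_memU hq (h.K_le_C hq hp hk) hu) (inv_mem hu))
  have e : k * u * k⁻¹ * u⁻¹ = k * (u * k⁻¹ * u⁻¹) := by group
  rw [e]
  exact mul_mem hk (conj_mem_of_normalizer (h.C_le_normK hp) (h.U_le_C hp hq hu) (inv_mem hk))

/-- `{c ∈ C_p | [K_p, c] ≤ U_p}` -/
def dd (h : Tri V U C) (hp : Pt V p) : Subgroup G where
  carrier := {c | c ∈ C p ∧ ∀ k ∈ K U p, k * c * k⁻¹ * c⁻¹ ∈ U p}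
  one_mem' := ⟨one_mem _, fun k _ => by simp⟩
  mul_mem' := by
    rintro a b ⟨ha, ha2⟩ ⟨hb, hb2⟩
    refine ⟨mul_mem ha hb, fun k hk => ?_⟩
    have e : k * (a * b) * k⁻¹ * (a * b)⁻¹ = (k * a * k⁻¹ * a⁻¹) * (a * (k * b * k⁻¹ * b⁻¹) * a⁻¹) := by group
    rw [e]
    exact mul_mem (ha2 k hk) (h.conj_memU hp ha (hb2 k hk))
  inv_mem' := by
    rintro a ⟨ha, ha2⟩
    refine ⟨inv_mem ha, fun k hk => ?_⟩
    have e : k * a⁻¹ * k⁻¹ * a⁻¹⁻¹ = a⁻¹ * (a * k * a⁻¹ * k⁻¹) * a := by group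
    have e2 : a * k * a⁻¹ * k⁻¹ = (k * a * k⁻¹ * a⁻¹)⁻¹ := by group
    rw [e, e2]
    exact h.conj_memU' hp ha (inv_mem (ha2 k hk))

theorem mem_dd (h : Tri V U C) (hp : Pt V p) {c : G} :
    c ∈ dd h hp ↔ c ∈ C p ∧ ∀ k ∈ K U p, k * c * k⁻¹ * c⁻¹ ∈ U p := Iff.rfl

theorem C_le_norm_dd (h : Tri V U C) (hp : Pt V p) : C p ≤ normalizer (dd h hp : Set G) := by
  refine le_normalizer_of_forall fun c hc d hd => ?_
  rw [mem_dd] at hd ⊢
  refine ⟨mul_mem (mul_mem hc hd.1) (inv_mem hc), fun k hk => ?_⟩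
  have e : k * (c * d * c⁻¹) * k⁻¹ * (c * d * c⁻¹)⁻¹ =
      c * ((c⁻¹ * k * c) * d * (c⁻¹ * k * c)⁻¹ * d⁻¹) * c⁻¹ := by group
  rw [e]
  exact h.conj_memU hp hc (hd.2 _ (conj_mem_of_normalizer' (h.C_le_normK hp) hc hk))

theorem mem_of_mul (h : Tri V U C) (hp : Pt V p) {D : Subgroup G} (hD : C p ≤ normalizer (D : Set G))
    {y d : G} (hy : y ∈ Q U C p) (hd : d ∈ D) {m : ℕ} {g : G} (ho : Odd (orderOf g)) (hg : g ^ 2 ^ m = d * y) :
    g ∈ D := by
  obtain ⟨n, hn⟩ := exists_pow_of_mem_Q h hp hy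
  have h1 := pow_mul_mem (N := D) hd (z := y) (fun x hx => conj_mem_of_normalizer hD hy.1 hx) (2 ^ n)
  rw [hn, inv_one, mul_one, ← hg, ← pow_mul, ← pow_add] at h1
  exact mem_of_pow_mem ho h1

theorem isF_mem_dd (h : Tri V U C) (hp : Pt V p) {f : G} (hf : IsF U C p f) : f ∈ dd h hp := by
  obtain ⟨q, hq, hpq⟩ := exists_other h hp
  obtain ⟨t, ht, htQ⟩ := h.exists_t hp hq hpq
  have htC := h.U_le_C hp hq ht
  have htt : t * t ∈ Q U C p := by rw [h.sqU q hq t ht]; exact one_mem _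
  have h1 := IsF.inv_of_sq h hp hf htC htt htQ
  have htD : t ∈ dd h hp := by
    rw [mem_dd]
    exact ⟨htC, fun k hk => (comm_K_U h hp hq hpq hk ht).1⟩
  -- `d = t f⁻¹ t⁻¹ f ∈ D` and `f² = d y`
  have hd : t * (f⁻¹ * t⁻¹ * f) ∈ dd h hp :=
    mul_mem htD (conj_mem_of_normalizer' (C_le_norm_dd h hp) hf.mem (inv_mem htD))
  have hy : f⁻¹ * (t * f * t⁻¹ * f) * f ∈ Q U C p :=
    conj_mem_of_normalizer' (h.C_le_normQ hp) hf.mem h1
  refine mem_of_mul h hp (C_le_norm_dd h hp) hy hd (m := 1) hf.odd ?_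
  rw [pow_one, pow_two]
  group

theorem odd_mem_dd (h : Tri V U C) (hp : Pt V p) {g : G} (hg : g ∈ C p) (ho : Odd (orderOf g)) :
    g ∈ dd h hp := by
  by_cases hgQ : g ∈ Q U C p
  · obtain ⟨n, hn⟩ := exists_pow_of_mem_Q h hp hgQ
    rw [eq_one_of_odd ho hn]
    exact one_mem _
  · obtain ⟨f, hf⟩ := exists_isF h hp
    exact isF_mem_dd h hp (isF_of h hp hf hg ho hgQ)

/-- (A8) `[K_p, X_p] ≤ U_p`, `X_p = oddGen (C p)` -/
theorem comm_K_X (h : Tri V U C) (hp : Pt V p) {k x : G} (hk : k ∈ K U p) (hx : x ∈ oddGen (C p)) :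
    k * x * k⁻¹ * x⁻¹ ∈ U p := by
  have h1 : oddGen (C p) ≤ dd h hp := by
    rw [oddGen_def, closure_le]
    rintro g ⟨hg, ho⟩
    exact odd_mem_dd h hp hg ho
  exact ((mem_dd h hp).mp (h1 hx)).2 k hk

theorem U_le_oddGen (h : Tri V U C) (hp : Pt V p) : U p ≤ oddGen (C p) := by
  obtain ⟨f, hf⟩ := exists_isF h hp
  exact U_le_X h hp (oddGen_le _) (le_normalizer_oddGen _) hf (mem_oddGen hf.mem hf.odd)

/-- no 2-group containing `p q` is normalised by `X_p` and `X_q` -/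
theorem kill_two (h : Tri V U C) (hp : Pt V p) (hq : Pt V q) (hpq : p ≠ q) {W : Subgroup G} (hW : IsPGroup 2 W)
    (h1 : oddGen (C p) ≤ normalizer (W : Set G)) (h2 : oddGen (C q) ≤ normalizer (W : Set G)) : p * q ∉ W := by
  intro hr
  obtain ⟨f, hf⟩ := exists_isF h hp
  obtain ⟨g, hg⟩ := exists_isF h hq
  obtain ⟨h3, h4, h5⟩ := h.third hp hq hpq
  have hrp : p * q ∈ U p := h.p_mem h3 hp
  have hrq : p * q ∈ U q := h.p_mem h3 hq
  set J := oddGen (C p) ⊔ oddGen (C q) with hJ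
  set N := ncl J (p * q) with hN
  have hNW : N ≤ W := ncl_le_of_conj hr fun x hx k hk => conj_mem_of_normalizer (sup_le h1 h2) hx hk
  have hpN : U p ≤ N := (U_le_ncl h hp (oddGen_le _) (le_normalizer_oddGen _) hf
    (mem_oddGen hf.mem hf.odd) hrp h3.2 h4).trans (ncl_mono le_sup_left _)
  have hqN : U q ≤ N := (U_le_ncl h hq (oddGen_le _) (le_normalizer_oddGen _) hg
    (mem_oddGen hg.mem hg.odd) hrq h3.2 h5).trans (ncl_mono le_sup_right _)
  have hv : p * q ∈ ⁅N, N⁆ := commutator_mono hpN hqN (third_mem_comm h hp hq hpq)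
  have hNN : N ≤ ⁅N, N⁆ := by
    refine ncl_le_of_conj hv fun x hx k hk => ?_
    have h6 : ⁅N, N⁆ ≤ (⁅N, N⁆).comap (MulAut.conj x).toMonoidHom := by
      rw [commutator_le]
      intro a ha c hc
      change (MulAut.conj x).toMonoidHom ⁅a, c⁆ ∈ ⁅N, N⁆
      rw [map_commutatorElement]
      exact commutator_mem_commutator (conj_mem_of_mem_ncl hx ha) (conj_mem_of_mem_ncl hx hc)
    exact h6 hk
  have hpg : Fact (Nat.Prime 2) := ⟨Nat.prime_two⟩
  have hnil : Group.IsNilpotent N := (hW.to_le hNW).isNilpotent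
  have hnt : Nontrivial N := by
    rw [nontrivial_iff_ne_bot]
    intro e
    have h6 : p * q ∈ N := self_mem_ncl _ _
    rw [e, mem_bot] at h6
    exact h3.2 h6
  have h4' := (Group.IsSolvable.commutator_lt_top_of_nontrivial N).ne
  apply h4'
  rw [eq_top_iff]
  rintro ⟨x, hx⟩ -
  have hx2 : x ∈ map N.subtype (_root_.commutator N) := by rw [map_subtype_commutator]; exact hNN hx
  obtain ⟨x', hx', e⟩ := hx2
  have h5' : x' = ⟨x, hx⟩ := Subtype.ext e
  rw [← h5']
  exact hx'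

theorem EE_eq (Y : Subgroup G) : Omega.FieldKill.EE Y = oddGen Y := by
  rw [oddGen_def]; rfl

/-- (A8) = (N), from characteristic 2 type -/
theorem killX (h : Tri V U C) (hcen : ∀ p, Pt V p → C p = centralizer ({p} : Set G))
    (hloc : ∀ R : Subgroup G, IsPGroup 2 R → R ≠ ⊥ →
      centralizer (o2 (normalizer (R : Set G)) : Set G) ≤ o2 (normalizer (R : Set G)))
    (hp : Pt V p) (hq : Pt V q) (hpq : p ≠ q) {R : Subgroup G} (hR : IsPGroup 2 R)
    (h1 : oddGen (C p) ≤ normalizer (R : Set G)) (h2 : oddGen (C q) ≤ normalizer (R : Set G)) : R = ⊥ := by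
  by_contra hne
  obtain ⟨f, hf⟩ := exists_isF h hp
  obtain ⟨g, hg⟩ := exists_isF h hq
  set H := normalizer (R : Set G) with hH
  set W := o2 H with hWdef
  have hW : IsPGroup 2 W := o2_isPGroup H
  have hHW : H ≤ normalizer (W : Set G) := Block.le_normalizer_o2 H
  have hc : centralizer (W : Set G) ≤ W := hloc R hR hne
  have hk : ∀ {p q : G}, Pt V p → Pt V q → p ≠ q → oddGen (C p) ≤ H → oddGen (C q) ≤ H →
      W ⊓ U p = ⊥ := by
    intro p q hp hq hpq h1 h2
    obtain ⟨f, hf⟩ := exists_isF h hp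
    obtain ⟨g, hg⟩ := exists_isF h hq
    obtain ⟨h3, h4, h5⟩ := h.third hp hq hpq
    have hrp : p * q ∈ U p := h.p_mem h3 hp
    have hr := kill_two h hp hq hpq hW (h1.trans hHW) (h2.trans hHW)
    have key : ∀ {x : G}, Pt V x → oddGen (C x) ≤ H → ∀ u ∈ U x, u ≠ 1 → u ≠ x → p * q ∈ U x → u ∉ W := by
      intro x hx hxH u hu hu1 hux hr' huW
      obtain ⟨f, hf⟩ := exists_isF h hx
      exact hr ((U_le_ncl h hx (oddGen_le _) (le_normalizer_oddGen _) hf (mem_oddGen hf.mem hf.odd) hu hu1 hux).trans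
        (ncl_le_of_conj huW fun y hy k hk => conj_mem_of_normalizer (hxH.trans hHW) hy hk) hr')
    rw [eq_bot_iff]
    rintro u ⟨huW, hu⟩
    rw [mem_bot]
    by_contra hu1
    by_cases hup : u = p
    · exact key hq h2 u (by rw [hup]; exact h.p_mem hp hq) hu1 (by rw [hup]; exact hpq) (h.p_mem h3 hq) huW
    · exact key hp h1 u hu hu1 hup hrp huW
  have hWp : W ⊓ U p = ⊥ := hk hp hq hpq h1 h2
  have hWq : W ⊓ U q = ⊥ := hk hq hp hpq.symm h2 h1
  -- `C_W(p)` is centralised by `X_p`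
  have hcen : ∀ {p : G}, Pt V p → oddGen (C p) ≤ H → W ⊓ U p = ⊥ → ∀ x ∈ W, x * p = p * x →
      (∀ u ∈ U p, x * u = u * x) ∧ ∀ y ∈ oddGen (C p), x * y = y * x := by
    intro p hp h1 hWp x hx hxp
    have hxC : x ∈ C p := by
      rw [hcen p hp]; exact mem_centralizer_singleton_iff.mpr hxp
    obtain ⟨f, hf⟩ := exists_isF h hp
    have hUX : U p ≤ oddGen (C p) := U_le_oddGen h hp
    have hxK : ∀ u ∈ U p, x * u = u * x := by
      intro u hu
      have h3 : x * u * x⁻¹ * u⁻¹ ∈ W ⊓ U p := by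
        refine inf_mk ?_ (mul_mem (h.conj_memU hp hxC hu) (inv_mem hu))
        have e : x * u * x⁻¹ * u⁻¹ = x * (u * x⁻¹ * u⁻¹) := by group
        rw [e]
        exact mul_mem hx (conj_mem_of_normalizer ((hUX.trans h1).trans hHW) hu (inv_mem hx))
      rw [hWp, mem_bot] at h3
      exact mul_inv_eq_iff_eq_mul.mp (mul_inv_eq_one.mp h3)
    refine ⟨hxK, fun y hy => ?_⟩
    have h3 : x * y * x⁻¹ * y⁻¹ ∈ W ⊓ U p := by
      refine inf_mk ?_ (comm_K_X h hp (mem_centralizer_iff.mpr fun u hu => (hxK u hu).symm) hy)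
      have e : x * y * x⁻¹ * y⁻¹ = x * (y * x⁻¹ * y⁻¹) := by group
      rw [e]
      exact mul_mem hx (conj_mem_of_normalizer (h1.trans hHW) hy (inv_mem hx))
    rw [hWp, mem_bot] at h3
    exact mul_inv_eq_iff_eq_mul.mp (mul_inv_eq_one.mp h3)
  -- the 2-group `T = U_p U_q`
  set T := U p ⊔ U q with hT
  have hT2 : IsPGroup 2 T := by
    refine (isPGroup_centV h hp).to_le (sup_le (h.U_le_centV hp) (h.U_le_centV hq))
  set J := oddGen (C p) ⊔ oddGen (C q) with hJ
  have hJH : J ≤ H := sup_le h1 h2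
  have hTJ : T ≤ J := sup_le_sup (U_le_oddGen h hp) (U_le_oddGen h hq)
  have hpT : p ∈ ⁅T, T⁆ := commutator_mono le_sup_left le_sup_right (p_mem_comm h hp hq hpq)
  have hfin := Cfsg.Agent.Omega.FieldKill.cen_of_mem_comm (R := W) (Y := J) (U := T) (z := p) hW
    (fun y hy x hx => conj_mem_of_normalizer (hJH.trans hHW) hy hx) hT2 hTJ hpT (by
      intro x hx hxp y hy
      obtain ⟨hx1, hx2⟩ := hcen hp h1 hWp x hx hxp
      obtain ⟨hx3, hx4⟩ := hcen hq h2 hWq x hx (hx1 q (h.p_mem hq hp))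
      have h3 : J ≤ centralizer ({x} : Set G) := by
        refine sup_le ?_ ?_
        · intro y hy; exact mem_centralizer_singleton_iff.mpr (hx2 y hy).symm
        · intro y hy; exact mem_centralizer_singleton_iff.mpr (hx4 y hy).symm
      exact (mem_centralizer_singleton_iff.mp (h3 hy)).symm)
  have hfJ : f ∈ Cfsg.Agent.Omega.FieldKill.EE J :=
    Cfsg.Agent.Omega.FieldKill.mem_EE (mem_sup_left (mem_oddGen hf.mem hf.odd)) hf.odd
  have hfW : f ∈ W := hc (hfin hfJ)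
  obtain ⟨k, hk'⟩ := hW ⟨f, hfW⟩
  have hk2 : f ^ 2 ^ k = 1 := congrArg Subtype.val hk'
  have hf1 : f = 1 := eq_one_of_odd hf.odd hk2
  exact hf.notMem (by rw [hf1]; exact one_mem _)

/-- `Q_p = (Q_p ⊓ X_p) K_p` -/
theorem Q_eq_sup (h : Tri V U C) (hp : Pt V p) : Q U C p = (oddGen (C p) ⊓ Q U C p) ⊔ K U p := by
  obtain ⟨f, hf⟩ := exists_isF h hp
  have hfX : f ∈ oddGen (C p) := mem_oddGen hf.mem hf.odd
  have h2 : C p ≤ normalizer (((oddGen (C p) ⊓ Q U C p) ⊔ K U p : Subgroup G) : Set G) := by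
    refine le_normalizer_of_forall fun c hc x hx => ?_
    have h3 : cj c ((oddGen (C p) ⊓ Q U C p) ⊔ K U p) ≤ (oddGen (C p) ⊓ Q U C p) ⊔ K U p := by
      have e : cj c ((oddGen (C p) ⊓ Q U C p) ⊔ K U p) = cj c (oddGen (C p) ⊓ Q U C p) ⊔ cj c (K U p) :=
        Subgroup.map_sup _ _ _
      rw [e, cj_inf]
      refine sup_le_sup (inf_le_inf ?_ ?_) ?_
      · exact (cj_eq_of_mem_normalizer (le_normalizer_oddGen _ hc)).le
      · exact (cj_eq_of_mem_normalizer (h.C_le_normQ hp hc)).le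
      · exact (cj_eq_of_mem_normalizer (h.C_le_normK hp hc)).le
    exact h3 (conj_mem_cj hx)
  rcases irred h hp hf le_sup_right (sup_le inf_le_right (h.K_le_Q hp))
    (fun b hb => conj_mem_of_normalizer h2 hf.mem hb) with h1 | h1
  · exfalso
    obtain ⟨x, hx, v, hv, hxv⟩ := exists_mem_X h hp (oddGen_le _) (le_normalizer_oddGen _) hf hfX
    have h3 : x ∈ K U p := by rw [← h1]; exact le_sup_left (α := Subgroup G) hx
    exact hxv (mem_centralizer_iff.mp h3 v hv).symm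
  · exact h1.symm

/-- every element of `Q_p` is `x k`, `x ∈ X_p ⊓ Q_p`, `k ∈ K_p` -/
theorem exists_mul_of_mem_Q (h : Tri V U C) (hp : Pt V p) {y : G} (hy : y ∈ Q U C p) :
    ∃ x ∈ oddGen (C p) ⊓ Q U C p, ∃ k ∈ K U p, y = x * k := by
  rw [Q_eq_sup h hp] at hy
  have hn : oddGen (C p) ⊓ Q U C p ≤ normalizer (K U p : Set G) :=
    inf_le_left.trans ((oddGen_le _).trans (h.C_le_normK hp))
  rw [← SetLike.mem_coe, coe_mul_of_left_le_normalizer_right _ _ hn] at hy
  obtain ⟨x, hx, k, hk, e⟩ := Set.mem_mul.mp hy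
  exact ⟨x, hx, k, hk, e.symm⟩

/-- `G` with the conjugation action -/
@[ext] structure CX (G : Type u) where
  /-- the element -/
  val : G

instance : MulAction G (CX G) where
  smul g x := ⟨g * x.val * g⁻¹⟩
  one_smul x := by
    ext
    change 1 * x.val * 1⁻¹ = x.val
    simp
  mul_smul a b x := by
    ext
    change a * b * x.val * (a * b)⁻¹ = a * (b * x.val * b⁻¹) * a⁻¹
    group

theorem smul_cx (g : G) (x : CX G) : g • x = ⟨g * x.val * g⁻¹⟩ := rfl

/-- (A8) all elements of odd order of `C_p` are `Q_p`-conjugate to powers of `f` (which has order 5) -/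
theorem exists_conj_of_odd (h : Tri V U C) (hp : Pt V p) {f g : G} (hf : IsF U C p f) (hg : g ∈ C p)
    (ho : Odd (orderOf g)) : ∃ x ∈ Q U C p, ∃ k : ℕ, g = x * f ^ k * x⁻¹ := by
  obtain ⟨k, -, hk⟩ := IsF.of_odd h hp hf hg ho
  set d := f ^ k with hd
  have hdC : d ∈ C p := pow_mem hf.mem k
  have hcop : (Nat.card (zpowers g)).Coprime (Nat.card (Q U C p)) := by
    obtain ⟨n, hn⟩ := IsPGroup.iff_card.mp (isPGroup_Q h hp)
    rw [hn, Nat.card_zpowers]
    exact Nat.Coprime.pow_right n (Nat.coprime_two_right.mpr ho)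
  have hnorm : ∀ c ∈ C p, ∀ n ∈ Q U C p, c * n * c⁻¹ ∈ Q U C p := fun c hc n hn =>
    conj_mem_of_normalizer (h.C_le_normQ hp) hc hn
  have hsol : Group.IsSolvable ↥(zpowers g) := by infer_instance
  obtain ⟨x, hx, hfix⟩ := Cfsg.Agent.Solvable.Glauberman.exists_smul_fixed (zpowers g) (Q U C p)
    ((zpowers_le.mpr hg).trans (h.C_le_normQ hp)) hcop (Or.inl hsol) (X := CX G) ⟨d⟩ (by
      intro a ha
      obtain ⟨i, rfl⟩ := mem_zpowers_iff.mp ha
      -- `gⁱ d⁻ⁱ ∈ Q`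
      have h1 : ∀ n : ℕ, g ^ n * (d ^ n)⁻¹ ∈ Q U C p := by
        intro n
        have h2 := pow_mul_mem (N := Q U C p) (y := g * d⁻¹) (z := d) hk (fun n hn => hnorm d hdC n hn) n
        rwa [inv_mul_cancel_right] at h2
      obtain ⟨n, hn⟩ : ∃ n : ℕ, g ^ i = g ^ n := by
        have := (mem_powers_iff_mem_zpowers (x := g) (y := g ^ i)).mpr ⟨i, rfl⟩
        obtain ⟨n, hn⟩ := this
        exact ⟨n, hn.symm⟩
      refine ⟨g ^ n * (d ^ n)⁻¹, h1 n, ?_⟩
      rw [hn, smul_cx, smul_cx]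
      refine CX.ext ?_
      change g ^ n * d * (g ^ n)⁻¹ = g ^ n * (d ^ n)⁻¹ * d * (g ^ n * (d ^ n)⁻¹)⁻¹
      have e : g ^ n * (d ^ n)⁻¹ * d * (g ^ n * (d ^ n)⁻¹)⁻¹ = g ^ n * ((d ^ n)⁻¹ * d * d ^ n) * (g ^ n)⁻¹ := by
        group
      have e2 : (d ^ n)⁻¹ * d * d ^ n = d := by
        rw [mul_assoc, (Commute.self_pow d n).eq, inv_mul_cancel_left]
      rw [e, e2])
  refine ⟨x, hx, k, ?_⟩
  have h1 : g * (x * d * x⁻¹) * g⁻¹ = x * d * x⁻¹ := congrArg CX.val (hfix g (mem_zpowers g))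
  set e := x * d * x⁻¹ with he
  have hcomm : Commute g e := mul_inv_eq_iff_eq_mul.mp h1
  -- `g e⁻¹ ∈ Q`
  have h2 : g * e⁻¹ ∈ Q U C p := by
    have h3 : e * d⁻¹ ∈ Q U C p := by
      rw [he, show x * d * x⁻¹ * d⁻¹ = x * (d * x⁻¹ * d⁻¹) by group]
      exact mul_mem hx (hnorm d hdC _ (inv_mem hx))
    have h4 := mul_mem hk (inv_mem h3)
    have e5 : g * d⁻¹ * (e * d⁻¹)⁻¹ = g * e⁻¹ := by group
    rwa [e5] at h4
  obtain ⟨n, hn⟩ := exists_pow_of_mem_Q h hp h2
  have h5 : Odd (orderOf (g * e⁻¹)) := by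
    have h6 : orderOf (g * e⁻¹) ∣ (orderOf g).lcm (orderOf e⁻¹) := (hcomm.inv_right).orderOf_mul_dvd_lcm
    have h7 : Odd (orderOf e⁻¹) := by
      rw [orderOf_inv]
      have h8 : orderOf e = orderOf d := by
        have := orderOf_injective (MulAut.conj x).toMonoidHom (MulAut.conj x).injective d
        simpa [he] using this
      rw [h8]
      exact Odd.of_dvd_nat hf.odd (orderOf_pow_dvd k)
    refine Odd.of_dvd_nat (Odd.mul ho h7) (h6.trans (Nat.lcm_dvd_mul _ _))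
  have h6 := eq_one_of_odd h5 hn
  rw [mul_inv_eq_one] at h6
  exact h6

/-! ### (A9) -/

/-- (A9) in strong form -/
theorem exists_four (h : Tri V U C) (hp : Pt V p) (hq : Pt V q) (hpq : p ≠ q) :
    ∃ c ∈ centralizer (V : Set G), c * c ∉ Q U C p := by
  by_contra hcon
  push Not at hcon
  -- the same for `q`
  have key : ∀ p q : G, Pt V p → Pt V q → p ≠ q → (∀ c ∈ centralizer (V : Set G), c * c ∈ Q U C p) →
      ∀ c ∈ centralizer (V : Set G), ∀ e ∈ U p ⊓ U q, c * e * c⁻¹ = e ∨ c * e * c⁻¹ = p * e := by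
    intro p q hp hq hpq hcon c hc e he
    obtain ⟨t, ht, htQ⟩ := h.exists_t hp hq hpq
    have htV := h.U_le_centV hq ht
    have htC := h.centV_le hp htV
    have hcC := h.centV_le hp hc
    by_cases hcQ : c ∈ Q U C p
    · exact ((h.mem_Q_iff hp).mp hcQ).2 e he.1
    · obtain ⟨n, hn⟩ := exists_pow_of_mem_centV h hp (mul_mem hc htV)
      have h1 := mul_mem_Q h hp hcC htC (hcon c hc) (by rw [h.sqU q hq t ht]; exact one_mem _) hcQ htQ
        (n := n) (by rw [hn]; exact one_mem _)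
      have h2 : c * t * e * (c * t)⁻¹ = c * e * c⁻¹ := by
        have h3 : t * e = e * t := h.commU hq ht he.2
        calc c * t * e * (c * t)⁻¹ = c * (t * e) * t⁻¹ * c⁻¹ := by group
          _ = c * e * c⁻¹ := by rw [h3]; group
      rw [← h2]
      exact ((h.mem_Q_iff hp).mp h1).2 e he.1
  have hcon' : ∀ c ∈ centralizer (V : Set G), c * c ∈ Q U C q := by
    obtain ⟨n, hn, h1, h2, h3, h4, h5, h6⟩ := h.exists_swap hp hq hpq
    intro c hc
    have h7 : n⁻¹ * c * n ∈ centralizer (V : Set G) := by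
      refine mem_centralizer_iff.mpr fun v hv => ?_
      have h8 := mem_centralizer_iff.mp hc (n * v * n⁻¹) ((mem_normalizer_iff.mp hn v).mp hv)
      calc v * (n⁻¹ * c * n) = n⁻¹ * ((n * v * n⁻¹) * c) * n := by group
        _ = n⁻¹ * (c * (n * v * n⁻¹)) * n := by rw [h8]
        _ = n⁻¹ * c * n * v := by group
    have h8 := conj_mem_cj (g := n) (hcon _ h7)
    have h9 : cj n (Q U C p) = Q U C q := by
      change cj n (kst (C p) (U p) p) = kst (C q) (U q) q
      rw [Tri.cj_kst, h5, h3, h1]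
    rw [h9] at h8
    have e : n * (n⁻¹ * c * n * (n⁻¹ * c * n)) * n⁻¹ = c * c := by group
    rwa [e] at h8
  obtain ⟨c, -, hc, e, he, hce⟩ := exists_move_E h hp hq hpq
  rcases key q p hq hp hpq.symm hcon' c hc e ⟨he.2, he.1⟩ with h1 | h1
  · rw [h1] at hce
    exact hp.2 (mul_eq_right.mp hce.symm)
  · rw [h1] at hce
    exact hpq (mul_right_cancel hce).symm

theorem relIndex_Q (h : Tri V U C) (hp : Pt V p) : (Q U C p).relIndex (C p) = 20 := by
  rcases h.idx p hp with h1 | h1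
  · exfalso
    obtain ⟨q, hq, hpq⟩ := exists_other h hp
    obtain ⟨c, hc, hcc⟩ := exists_four h hp hq hpq
    have hn : ((Q U C p).subgroupOf (C p)).Normal := by
      refine ⟨fun x hx l => ?_⟩
      rw [mem_subgroupOf] at hx ⊢
      exact conj_mem_of_normalizer (h.C_le_normQ hp) l.2 hx
    have h2 := Subgroup.pow_index_mem ((Q U C p).subgroupOf (C p)) (⟨c, h.centV_le hp hc⟩ : C p)
    rw [← Subgroup.relIndex, h1, mem_subgroupOf] at h2
    change c ^ 10 ∈ Q U C p at h2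
    obtain ⟨n, hn⟩ := exists_pow_of_mem_centV h hp hc
    -- `c² ∈ ⟨c¹⁰⟩`
    have h3 : c ^ 2 ∈ Q U C p := by
      have h4 : (c ^ 2) ^ 5 ∈ Q U C p := by rw [← pow_mul]; exact h2
      have h5 : Nat.Coprime 5 (orderOf (c ^ 2)) := by
        have h6 : orderOf (c ^ 2) ∣ 2 ^ n := (orderOf_pow_dvd 2).trans (orderOf_dvd_of_pow_eq_one hn)
        exact Nat.Coprime.coprime_dvd_right h6 (Nat.Coprime.pow_right n (by norm_num))
      obtain ⟨m, hm⟩ := exists_pow_eq_self_of_coprime h5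
      rw [← hm]
      exact pow_mem h4 m
    rw [pow_two] at h3
    exact hcc h3
  · exact h1

end Cfsg.Agent.Omega.TitsAmal.TriQK

end

section


/-!
# (A10) of the blueprint `P21-FIN-helper531.md`

`C_{K_p}(X_p) = ⟨p⟩`, `K_p ⊓ K_q = E`, `|K_p| = 32` or `64`.
-/

set_option autoImplicit false

namespace Cfsg.Agent.Omega.TitsAmal.TriTen

open Subgroup Cfsg Cfsg.Agent.ZN Cfsg.Agent.MinSimple.Geo
open Cfsg.Agent.Omega.TitsAmal.Tri (Pt kst K Q)
open Cfsg.Agent.Omega.TitsAmal.TriAct Cfsg.Agent.Omega.TitsAmal.TriQK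
open Cfsg.Agent.MinSimple.VModule (oddGen mem_oddGen oddGen_le le_normalizer_oddGen)
open Cfsg.Agent.ZN.Block (conj_mem_of_normalizer conj_mem_of_normalizer' card_mul_relIndex')

universe u

variable {G : Type u} [Group G] [Finite G] {V : Subgroup G} {U C : G → Subgroup G} {p q : G}

/-! ### generalities -/

theorem exists_coset_fixed {G : Type*} [Group G] {U : Subgroup G} [Finite U] (hU : Nat.card U = 32) {f d : G} (hf : f ^ 5 = 1)
    (hn : ∀ u ∈ U, f * u * f⁻¹ ∈ U) (hd : d⁻¹ * (f * d * f⁻¹) ∈ U) :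
    ∃ u ∈ U, f * (d * u) * f⁻¹ = d * u := by
  classical
  have : Fintype U := Fintype.ofFinite U
  have : Fact (Nat.Prime 5) := ⟨by norm_num⟩
  let g : Function.End U := fun u => ⟨d⁻¹ * (f * (d * u.1) * f⁻¹), by
    have e : d⁻¹ * (f * (d * u.1) * f⁻¹) = d⁻¹ * (f * d * f⁻¹) * (f * u.1 * f⁻¹) := by group
    rw [e]
    exact mul_mem hd (hn _ u.2)⟩
  have hg : ∀ (n : ℕ) (u : U), (((g ^ n) u : U) : G) = d⁻¹ * (f ^ n * (d * u.1) * (f ^ n)⁻¹) := by
    intro n
    induction n with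
    | zero =>
      intro u
      show (u : G) = _
      simp
    | succ n ih =>
      intro u
      have e : (g ^ (n + 1)) u = g ((g ^ n) u) := by
        rw [pow_succ']
        rfl
      rw [e]
      show d⁻¹ * (f * (d * (((g ^ n) u : U) : G)) * f⁻¹) = _
      rw [ih u, pow_succ']
      group
  have h5 : g ^ 5 ^ 1 = 1 := by
    funext u
    apply Subtype.ext
    rw [hg]
    show d⁻¹ * (f ^ 5 ^ 1 * (d * u.1) * (f ^ 5 ^ 1)⁻¹) = u.1
    rw [pow_one, hf]
    group
  have h1 := Equiv.Perm.card_fixedPoints_modEq h5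
  have h2 : Fintype.card U = 32 := by rw [← Nat.card_eq_fintype_card, hU]
  rw [h2] at h1
  have h3 : Fintype.card (Function.fixedPoints g) ≠ 0 := by
    intro h0
    rw [h0] at h1
    have : (32 : ℕ) % 5 = 0 % 5 := h1
    norm_num at this
  obtain ⟨⟨u, hu⟩⟩ := Fintype.card_pos_iff.mp (Nat.pos_of_ne_zero h3)
  refine ⟨u.1, u.2, ?_⟩
  have h4 : d⁻¹ * (f * (d * u.1) * f⁻¹) = u.1 := congrArg Subtype.val (show g u = u from hu)
  exact inv_mul_eq_iff_eq_mul.mp h4

theorem card_le_two_mul {H N : Subgroup G} (hNH : N ≤ H) (h : ∀ x ∈ H, ∀ y ∈ H, x ∉ N → y ∉ N → x⁻¹ * y ∈ N) :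
    Nat.card H ≤ 2 * Nat.card N := by
  classical
  by_cases hx : ∃ x ∈ H, x ∉ N
  · obtain ⟨x, hx, hxN⟩ := hx
    have h1 : Nat.card H ≤ Nat.card (Bool × N) := by
      refine Nat.card_le_card_of_injective
        (fun y : H => if hy : (y : G) ∈ N then (true, (⟨y, hy⟩ : N)) else (false, ⟨x⁻¹ * y, h x hx y y.2 hxN hy⟩)) ?_
      intro y y' e
      dsimp only at e
      split_ifs at e with h1 h2 h2
      · exact Subtype.ext (by simpa using e)
      · simp at e
      · simp at e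
      · exact Subtype.ext (by simpa using e)
    rw [Nat.card_prod] at h1
    simpa using h1
  · push Not at hx
    have : H = N := le_antisymm hx hNH
    rw [this]
    omega

/-! ### the group `R0 p = C_{K_p}(X_p)` -/

/-- `C_{K_p}(X_p)` -/
def R0 (U C : G → Subgroup G) (p : G) : Subgroup G := K U p ⊓ centralizer (oddGen (C p) : Set G)

omit [Finite G] in
theorem mem_R0 {k : G} : k ∈ R0 U C p ↔ k ∈ K U p ∧ ∀ x ∈ oddGen (C p), x * k = k * x := by
  unfold R0
  rw [mem_inf, mem_centralizer_iff]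
  rfl

omit [Finite G] in
theorem K_comm {k u : G} (hk : k ∈ K U p) (hu : u ∈ U p) : u * k = k * u := mem_centralizer_iff.mp hk u hu

omit [Finite G] in
theorem p_mem_R0 (h : Tri V U C) (hp : Pt V p) : p ∈ R0 U C p := by
  rw [mem_R0]
  exact ⟨h.U_le_K hp (h.V_le p hp hp.1), fun x hx => h.c_comm hp (oddGen_le _ hx)⟩

omit [Finite G] in
theorem R0_norm (h : Tri V U C) (hp : Pt V p) {c k : G} (hc : c ∈ C p) (hk : k ∈ R0 U C p) :
    c * k * c⁻¹ ∈ R0 U C p := by
  rw [mem_R0] at hk ⊢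
  refine ⟨conj_mem_of_normalizer (h.C_le_normK hp) hc hk.1, fun x hx => ?_⟩
  have h1 := hk.2 _ (conj_mem_of_normalizer' (le_normalizer_oddGen (C p)) hc hx)
  calc x * (c * k * c⁻¹) = c * ((c⁻¹ * x * c) * k) * c⁻¹ := by group
    _ = c * (k * (c⁻¹ * x * c)) * c⁻¹ := by rw [h1]
    _ = c * k * c⁻¹ * x := by group

theorem R0_inf_U (h : Tri V U C) (hp : Pt V p) {k : G} (hk : k ∈ R0 U C p) (hu : k ∈ U p) : k = 1 ∨ k = p := by
  obtain ⟨f, hf⟩ := exists_isF h hp
  have h1 := (mem_R0.mp hk).2 f (mem_oddGen hf.mem hf.odd)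
  exact hf.fixed h hp hu (Or.inl (by rw [h1, mul_inv_cancel_right]))

/-- `x k x⁻¹ = u k` with `u ∈ U_p` -/
theorem exists_u (h : Tri V U C) (hp : Pt V p) {k x : G} (hk : k ∈ K U p) (hx : x ∈ oddGen (C p)) :
    ∃ u ∈ U p, x * k * x⁻¹ = u * k := by
  have h1 := comm_K_X h hp hk hx
  refine ⟨(k * x * k⁻¹ * x⁻¹)⁻¹, inv_mem h1, by group⟩

theorem sq_mem_R0 (h : Tri V U C) (hp : Pt V p) {k : G} (hk : k ∈ K U p) : k * k ∈ R0 U C p := by
  rw [mem_R0]
  refine ⟨mul_mem hk hk, fun x hx => ?_⟩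
  obtain ⟨u, hu, e⟩ := exists_u h hp hk hx
  have huk := K_comm hk hu
  have e2 : x * (k * k) * x⁻¹ = k * k := by
    calc x * (k * k) * x⁻¹ = (x * k * x⁻¹) * (x * k * x⁻¹) := by group
      _ = (u * k) * (u * k) := by rw [e]
      _ = u * (k * u) * k := by group
      _ = u * (u * k) * k := by rw [huk]
      _ = (u * u) * (k * k) := by group
      _ = k * k := by rw [h.sqU p hp u hu, one_mul]
  exact mul_inv_eq_iff_eq_mul.mp e2

theorem comm_mem_R0 (h : Tri V U C) (hp : Pt V p) {k l : G} (hk : k ∈ K U p) (hl : l ∈ K U p) :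
    k * l * k⁻¹ * l⁻¹ ∈ R0 U C p := by
  rw [mem_R0]
  refine ⟨mul_mem (mul_mem (mul_mem hk hl) (inv_mem hk)) (inv_mem hl), fun x hx => ?_⟩
  obtain ⟨u, hu, e⟩ := exists_u h hp hk hx
  obtain ⟨v, hv, e'⟩ := exists_u h hp hl hx
  have c1 : Commute u k := K_comm hk hu
  have c2 : Commute u l := K_comm hl hu
  have c3 : Commute v k := K_comm hk hv
  have c4 : Commute v l := K_comm hl hv
  have c5 : Commute u v := h.commU hp hu hv
  have e2 : x * (k * l * k⁻¹ * l⁻¹) * x⁻¹ = k * l * k⁻¹ * l⁻¹ := by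
    calc x * (k * l * k⁻¹ * l⁻¹) * x⁻¹ = (x * k * x⁻¹) * (x * l * x⁻¹) * (x * k * x⁻¹)⁻¹ * (x * l * x⁻¹)⁻¹ := by group
      _ = (u * k) * (v * l) * (u * k)⁻¹ * (v * l)⁻¹ := by rw [e, e']
      _ = (k * u) * (l * v) * (u * k)⁻¹ * (v * l)⁻¹ := by rw [c1.eq, c4.eq]
      _ = k * (u * l) * v * k⁻¹ * u⁻¹ * (l⁻¹ * v⁻¹) := by group
      _ = k * (l * u) * v * k⁻¹ * u⁻¹ * (l⁻¹ * v⁻¹) := by rw [c2.eq]
      _ = k * l * (u * v) * k⁻¹ * u⁻¹ * (l⁻¹ * v⁻¹) := by group
      _ = k * l * (k⁻¹ * (u * v)) * u⁻¹ * (l⁻¹ * v⁻¹) := by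
        have : Commute (u * v) k⁻¹ := (c1.mul_left c3).inv_right
        rw [mul_assoc (k * l), this.eq]
      _ = k * l * k⁻¹ * ((u * v) * u⁻¹) * (l⁻¹ * v⁻¹) := by group
      _ = k * l * k⁻¹ * (v * l⁻¹) * v⁻¹ := by
        rw [c5.eq]
        group
      _ = k * l * k⁻¹ * (l⁻¹ * v) * v⁻¹ := by rw [c4.inv_right.eq]
      _ = _ := by group
  exact mul_inv_eq_iff_eq_mul.mp e2

theorem R0_le_K (h : Tri V U C) (hp : Pt V p) (hq : Pt V q) (hpq : p ≠ q) {k : G} (hk : k ∈ R0 U C p) :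
    k ∈ K U q := by
  have hkK := (mem_R0.mp hk).1
  have hkC : k ∈ C q := h.K_le_C hq hp hkK
  have hcm : ∀ u ∈ U q, k * u * k⁻¹ * u⁻¹ = 1 ∨ k * u * k⁻¹ * u⁻¹ = p := by
    intro u hu
    have h1 := comm_K_U h hp hq hpq hkK hu
    apply R0_inf_U h hp _ h1.1
    have h2 : u * k⁻¹ * u⁻¹ ∈ R0 U C p := R0_norm h hp (h.U_le_C hp hq hu) (inv_mem hk)
    have e : k * u * k⁻¹ * u⁻¹ = k * (u * k⁻¹ * u⁻¹) := by group
    rw [e]
    exact mul_mem hk h2
  have hQ : k ∈ Q U C q := by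
    by_contra hQ
    obtain ⟨n, hn⟩ := isPGroup_K h hp ⟨k, hkK⟩
    have hn' : k ^ 2 ^ n = 1 := congrArg Subtype.val hn
    have h8 := eight_le h hq hkC (n := n) (by rw [hn']; exact one_mem _) hQ (W := V) hq.1 (fun u hu => by
      rcases hcm u hu with e | e
      · rw [e]; exact one_mem _
      · rw [e]; exact hp.1)
    rw [h.cardV] at h8
    omega
  rw [mem_centralizer_iff]
  intro u hu
  rcases ((h.mem_Q_iff hq).mp hQ).2 u hu with e | e
  · exact (mul_inv_eq_iff_eq_mul.mp e).symm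
  · exfalso
    rcases hcm u hu with e' | e'
    · rw [e, mul_inv_cancel_right] at e'
      exact hq.2 e'
    · rw [e, mul_inv_cancel_right] at e'
      exact hpq e'.symm

/-! ### `Q_p = (X_p ⊓ Q_p) K_p` -/

theorem pow_five (h : Tri V U C) (hp : Pt V p) {f : G} (hf : IsF U C p f) : f ^ 5 = 1 := by
  obtain ⟨n, hn⟩ := isPGroup_Q h hp ⟨f ^ 5, hf.pow⟩
  have hn' : (f ^ 5) ^ 2 ^ n = 1 := congrArg Subtype.val hn
  have h1 : orderOf (f ^ 5) ∣ 2 ^ n := orderOf_dvd_of_pow_eq_one hn'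
  have h2 : orderOf (f ^ 5) ∣ orderOf f := orderOf_pow_dvd 5
  have h3 : Odd (orderOf (f ^ 5)) := Odd.of_dvd_nat hf.odd h2
  have h4 : Nat.Coprime (orderOf (f ^ 5)) (2 ^ n) := (Nat.Coprime.pow_right n (Nat.coprime_two_right.mpr h3))
  exact orderOf_eq_one_iff.mp (Nat.eq_one_of_dvd_coprimes h4 (dvd_refl _) h1)

theorem exists_X (h : Tri V U C) (hp : Pt V p) {c : G} (hc : c ∈ Q U C p) :
    ∃ x ∈ oddGen (C p), x ∈ Q U C p ∧ ∃ k ∈ K U p, c = x * k := by
  classical
  obtain ⟨f, hf⟩ := exists_isF h hp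
  have hfC := hf.mem
  have hQC : Q U C p ≤ C p := Tri.kst_le _ _ _
  set X := oddGen (C p) ⊓ Q U C p with hX
  have hXn : ∀ c ∈ C p, ∀ x ∈ X, c * x * c⁻¹ ∈ X := fun c hc x hx =>
    ⟨conj_mem_of_normalizer (le_normalizer_oddGen (C p)) hc hx.1, conj_mem_of_normalizer (h.C_le_normQ hp) hc hx.2⟩
  let N : Subgroup G :=
    { carrier := {c | ∃ x ∈ X, ∃ k ∈ K U p, c = x * k}
      one_mem' := ⟨1, one_mem _, 1, one_mem _, by simp⟩
      mul_mem' := by
        rintro _ _ ⟨x, hx, k, hk, rfl⟩ ⟨y, hy, l, hl, rfl⟩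
        refine ⟨x * (k * y * k⁻¹), mul_mem hx (hXn k (h.K_le_C hp hp hk) y hy), k * l, mul_mem hk hl, by group⟩
      inv_mem' := by
        rintro _ ⟨x, hx, k, hk, rfl⟩
        refine ⟨k⁻¹ * x⁻¹ * k, ?_, k⁻¹, inv_mem hk, by group⟩
        have := hXn k⁻¹ (inv_mem (h.K_le_C hp hp hk)) _ (inv_mem hx)
        rwa [inv_inv] at this }
  have hKN : K U p ≤ N := fun k hk => ⟨1, one_mem _, k, hk, by simp⟩
  have hNQ : N ≤ Q U C p := by
    rintro _ ⟨x, hx, k, hk, rfl⟩
    exact mul_mem hx.2 (h.K_le_Q hp hk)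
  have hinv : ∀ b ∈ N, f * b * f⁻¹ ∈ N := by
    rintro _ ⟨x, hx, k, hk, rfl⟩
    exact ⟨f * x * f⁻¹, hXn f hfC x hx, f * k * f⁻¹, conj_mem_of_normalizer (h.C_le_normK hp) hfC hk, by group⟩
  rcases irred h hp hf hKN hNQ hinv with e | e
  · exfalso
    -- every element of `Q_p` is in `K_p`
    have hall : ∀ x ∈ Q U C p, x ∈ K U p := by
      intro x hx
      have hy : f * x * f⁻¹ * x⁻¹ ∈ K U p := by
        rw [← e]
        refine ⟨f * x * f⁻¹ * x⁻¹, ⟨?_, ?_⟩, 1, one_mem _, by simp⟩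
        · have h1 : x * f⁻¹ * x⁻¹ ∈ oddGen (C p) :=
            conj_mem_of_normalizer (le_normalizer_oddGen (C p)) (hQC hx)
              (inv_mem (mem_oddGen hfC hf.odd))
          have e1 : f * x * f⁻¹ * x⁻¹ = f * (x * f⁻¹ * x⁻¹) := by group
          rw [e1]
          exact mul_mem (mem_oddGen hfC hf.odd) h1
        · exact mul_mem (conj_mem_of_normalizer (h.C_le_normQ hp) hfC hx) ((Q U C p).inv_mem hx)
      set y := f * x * f⁻¹ * x⁻¹ with hydef
      have hxy : x = y⁻¹ * (f * x * f⁻¹) := by rw [hydef]; group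
      by_contra hxK
      let B : Subgroup G := U p ⊓ centralizer ({x} : Set G)
      have hpB : p ∈ B := ⟨h.V_le p hp hp.1, mem_centralizer_singleton_iff.mpr (h.c_comm hp (hQC hx)).symm⟩
      have hBinv : ∀ b ∈ B, f * b * f⁻¹ ∈ B := by
        intro b hb
        have hbU : f * b * f⁻¹ ∈ U p := h.conj_memU hp hfC hb.1
        have hbx : b * x = x * b := mem_centralizer_singleton_iff.mp hb.2
        refine ⟨hbU, mem_centralizer_singleton_iff.mpr ?_⟩
        have hyb := K_comm hy hbU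
        -- `f b f⁻¹ * x = x * f b f⁻¹`
        have hyb' : (f * b * f⁻¹) * y⁻¹ = y⁻¹ * (f * b * f⁻¹) := (show Commute (f * b * f⁻¹) y from hyb).inv_right.eq
        calc f * b * f⁻¹ * x = (f * b * f⁻¹) * (y⁻¹ * (f * x * f⁻¹)) := by rw [← hxy]
          _ = ((f * b * f⁻¹) * y⁻¹) * (f * x * f⁻¹) := by group
          _ = (y⁻¹ * (f * b * f⁻¹)) * (f * x * f⁻¹) := by rw [hyb']
          _ = y⁻¹ * (f * (b * x) * f⁻¹) := by group
          _ = y⁻¹ * (f * (x * b) * f⁻¹) := by rw [hbx]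
          _ = (y⁻¹ * (f * x * f⁻¹)) * (f * b * f⁻¹) := by group
          _ = x * (f * b * f⁻¹) := by rw [← hxy]
      rcases hf.irred h hp (B := B) inf_le_left hpB hBinv with hB | hB
      · -- `U_p` has at most four elements
        obtain ⟨u0, hu0, hu0x⟩ : ∃ u ∈ U p, u * x ≠ x * u := by
          by_contra hcon
          push Not at hcon
          exact hxK (mem_centralizer_iff.mpr hcon)
        have hxu : ∀ u ∈ U p, x * u * x⁻¹ = u ∨ x * u * x⁻¹ = p * u := ((h.mem_Q_iff hp).mp hx).2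
        have h0 : x * u0 * x⁻¹ = p * u0 := by
          rcases hxu u0 hu0 with e | e
          · exact absurd (mul_inv_eq_iff_eq_mul.mp e).symm hu0x
          · exact e
        have hfour : (U p : Set G) ⊆ (({1, p, u0, p * u0} : Finset G) : Set G) := by
          classical
          intro u hu
          simp only [Finset.coe_insert, Finset.coe_singleton, Set.mem_insert_iff, Set.mem_singleton_iff]
          rcases hxu u hu with e | e
          · rcases hB u ⟨hu, mem_centralizer_singleton_iff.mpr (mul_inv_eq_iff_eq_mul.mp e).symm⟩ with e' | e'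
            · exact Or.inl e'
            · exact Or.inr (Or.inl e')
          · have hm : u * u0 ∈ B := by
              refine ⟨mul_mem hu hu0, mem_centralizer_singleton_iff.mpr ?_⟩
              have hup : Commute u p := h.commU hp hu (h.V_le p hp hp.1)
              have e1 : x * (u * u0) * x⁻¹ = u * u0 := by
                calc x * (u * u0) * x⁻¹ = (x * u * x⁻¹) * (x * u0 * x⁻¹) := by group
                  _ = p * u * (p * u0) := by rw [e, h0]
                  _ = p * (u * p) * u0 := by group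
                  _ = p * (p * u) * u0 := by rw [hup.eq]
                  _ = (p * p) * (u * u0) := by group
                  _ = u * u0 := by rw [h.pp hp, one_mul]
              exact (mul_inv_eq_iff_eq_mul.mp e1).symm
            have hu00 := h.sqU p hp u0 hu0
            rcases hB _ hm with e' | e'
            · right; right; left
              calc u = (u * u0) * u0⁻¹ := by group
                _ = u0 := by rw [e', one_mul, inv_eq_of_mul_eq_one_left hu00]
            · right; right; right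
              calc u = (u * u0) * u0⁻¹ := by group
                _ = p * u0 := by rw [e', inv_eq_of_mul_eq_one_left hu00]
        have h32 := h.cardU p hp
        have h4 : Nat.card (U p) ≤ 4 := by
          classical
          calc Nat.card (U p) = (U p : Set G).ncard := rfl
            _ ≤ (({1, p, u0, p * u0} : Finset G) : Set G).ncard := Set.ncard_le_ncard hfour (Set.toFinite _)
            _ = ({1, p, u0, p * u0} : Finset G).card := Set.ncard_coe_finset _
            _ ≤ 4 := Finset.card_le_four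
        omega
      · apply hxK
        rw [mem_centralizer_iff]
        intro u hu
        have : u ∈ B := by rw [hB]; exact hu
        exact mem_centralizer_singleton_iff.mp this.2
    have h16 := relIndex_K h hp
    rw [Subgroup.relIndex_eq_one.mpr hall] at h16
    omega
  · have : c ∈ N := by rw [e]; exact hc
    obtain ⟨x, hx, k, hk, e⟩ := this
    exact ⟨x, hx.1, hx.2, k, hk, e⟩

/-! ### `K_p ⊓ K_q = E R0_p` -/

theorem exists_decomp (h : Tri V U C) (hp : Pt V p) {f d : G} (hf : IsF U C p f) (hd : d ∈ K U p) :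
    ∃ u ∈ U p, f * (d * u) * f⁻¹ = d * u := by
  refine exists_coset_fixed (h.cardU p hp) (pow_five h hp hf) (fun u hu => h.conj_memU hp hf.mem hu) ?_
  obtain ⟨u, hu, e⟩ := exists_u h hp hd (mem_oddGen hf.mem hf.odd)
  rw [e, K_comm hd hu, inv_mul_cancel_left]
  exact hu

theorem D_eq (h : Tri V U C) (hp : Pt V p) (hq : Pt V q) (hpq : p ≠ q) {d : G} (hdp : d ∈ K U p)
    (hdq : d ∈ K U q) : ∃ e ∈ U p ⊓ U q, ∃ r ∈ R0 U C p, d = e * r := by
  obtain ⟨f, hf⟩ := exists_isF h hp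
  have hfC := hf.mem
  have hQC : Q U C p ≤ C p := Tri.kst_le _ _ _
  obtain ⟨u, hu, hr⟩ := exists_decomp h hp hf hdp
  set r := d * u with hrdef
  have hrK : r ∈ K U p := mul_mem hdp (h.U_le_K hp hu)
  have hfr : f * r = r * f := mul_inv_eq_iff_eq_mul.mp hr
  -- the subgroup `W1`
  have hR0n : ∀ c ∈ C p, ∀ x ∈ R0 U C p, c * x * c⁻¹ ∈ R0 U C p := fun c hc x hx => R0_norm h hp hc hx
  let W1 : Subgroup G :=
    { carrier := {x | x ∈ Q U C p ∧ r * x * r⁻¹ * x⁻¹ ∈ R0 U C p}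
      one_mem' := ⟨one_mem _, by simp⟩
      mul_mem' := by
        rintro x y ⟨hx, hx'⟩ ⟨hy, hy'⟩
        refine ⟨mul_mem hx hy, ?_⟩
        have e : r * (x * y) * r⁻¹ * (x * y)⁻¹ = (r * x * r⁻¹ * x⁻¹) * (x * (r * y * r⁻¹ * y⁻¹) * x⁻¹) := by group
        rw [e]
        exact mul_mem hx' (hR0n x (hQC hx) _ hy')
      inv_mem' := by
        rintro x ⟨hx, hx'⟩
        refine ⟨inv_mem hx, ?_⟩
        have e : r * x⁻¹ * r⁻¹ * x⁻¹⁻¹ = x⁻¹ * (r * x * r⁻¹ * x⁻¹)⁻¹ * x⁻¹⁻¹ := by group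
        rw [e]
        exact hR0n x⁻¹ (inv_mem (hQC hx)) _ (inv_mem hx') }
  have hKW : K U p ≤ W1 := fun k hk => ⟨h.K_le_Q hp hk, comm_mem_R0 h hp hrK hk⟩
  have hWQ : W1 ≤ Q U C p := fun x hx => hx.1
  have hinv : ∀ x ∈ W1, f * x * f⁻¹ ∈ W1 := by
    rintro x ⟨hx, hx'⟩
    refine ⟨conj_mem_of_normalizer (h.C_le_normQ hp) hfC hx, ?_⟩
    have e : r * (f * x * f⁻¹) * r⁻¹ * (f * x * f⁻¹)⁻¹ = f * (r * x * r⁻¹ * x⁻¹) * f⁻¹ := by
      have hrf : r⁻¹ * f = f * r⁻¹ := (show Commute f r from hfr).symm.inv_left.eq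
      calc r * (f * x * f⁻¹) * r⁻¹ * (f * x * f⁻¹)⁻¹ = (r * f) * x * (f⁻¹ * r⁻¹ * f) * x⁻¹ * f⁻¹ := by group
        _ = (f * r) * x * (f⁻¹ * (r⁻¹ * f)) * x⁻¹ * f⁻¹ := by rw [hfr]; group
        _ = (f * r) * x * (f⁻¹ * (f * r⁻¹)) * x⁻¹ * f⁻¹ := by rw [hrf]
        _ = _ := by group
    rw [e]
    exact hR0n f hfC _ hx'
  have hW : W1 = Q U C p := by
    rcases irred h hp hf hKW hWQ hinv with e | e
    · exfalso
      obtain ⟨a, ha, b, hb, hab⟩ := exists_mover h hp hq hpq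
      have hda : d * a = a * d := (K_comm hdq ha.1).symm
      have haW : a ∈ W1 := by
        refine ⟨ha.2, ?_⟩
        have hau := ((h.mem_Q_iff hp).mp ha.2).2 u hu
        have huu := h.sqU p hp u hu
        -- `[r, a] = d (u a u⁻¹ a⁻¹) d⁻¹ [d, a]`
        have e2 : r * a * r⁻¹ * a⁻¹ = d * (u * (a * u⁻¹ * a⁻¹)) * d⁻¹ := by
          have hda' : a * d⁻¹ = d⁻¹ * a := (show Commute d a from hda).symm.inv_right.eq
          calc r * a * r⁻¹ * a⁻¹ = d * u * a * u⁻¹ * (d⁻¹ * a⁻¹) := by rw [hrdef]; group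
            _ = d * u * a * u⁻¹ * (a * d)⁻¹ := by group
            _ = d * u * a * u⁻¹ * (d * a)⁻¹ := by rw [hda]
            _ = _ := by group
        rw [e2]
        have hp0 := p_mem_R0 h hp
        have h3 : u * (a * u⁻¹ * a⁻¹) ∈ R0 U C p := by
          have e3 : a * u⁻¹ * a⁻¹ = (a * u * a⁻¹)⁻¹ := by group
          rw [e3]
          rcases hau with e4 | e4
          · rw [e4, mul_inv_cancel]; exact one_mem _
          · rw [e4, mul_inv_rev, mul_inv_cancel_left]; exact inv_mem hp0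
        exact hR0n d (h.K_le_C hp hp hdp) _ h3
      rw [e] at haW
      have := K_comm haW hb
      have h5 : p * b = b := by rw [← hab, ← this, mul_inv_cancel_right]
      exact hp.2 (by simpa using h5)
    · exact e
  -- `r` centralises `x⁻¹ f x`
  have hcen : ∀ x ∈ Q U C p, (x⁻¹ * f * x) * r = r * (x⁻¹ * f * x) := by
    intro x hx
    have hxW : x ∈ W1 := by rw [hW]; exact hx
    have h1 := (mem_R0.mp hxW.2).2 f (mem_oddGen hfC hf.odd)
    -- f commutes with `r x r⁻¹ x⁻¹` and `r`, hence with `x r⁻¹ x⁻¹`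
    have c1 : Commute f (r * x * r⁻¹ * x⁻¹) := h1
    have c2 : Commute f r := hfr
    have c3 : Commute f (r⁻¹ * (r * x * r⁻¹ * x⁻¹)) := c2.inv_right.mul_right c1
    have e3 : r⁻¹ * (r * x * r⁻¹ * x⁻¹) = x * r⁻¹ * x⁻¹ := by group
    rw [e3] at c3
    have c4 : Commute (x⁻¹ * f * x) r⁻¹ := by
      show (x⁻¹ * f * x) * r⁻¹ = r⁻¹ * (x⁻¹ * f * x)
      calc (x⁻¹ * f * x) * r⁻¹ = x⁻¹ * (f * (x * r⁻¹ * x⁻¹)) * x := by group
        _ = x⁻¹ * ((x * r⁻¹ * x⁻¹) * f) * x := by rw [c3.eq]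
        _ = r⁻¹ * (x⁻¹ * f * x) := by group
    have := c4.inv_right
    rwa [inv_inv] at this
  have hrR : r ∈ R0 U C p := by
    rw [mem_R0]
    refine ⟨hrK, fun x hx => ?_⟩
    have hle : oddGen (C p) ≤ centralizer ({r} : Set G) := by
      unfold oddGen
      rw [closure_le]
      rintro g ⟨hg, ho⟩
      obtain ⟨y, hy, k, rfl⟩ := exists_conj_of_odd h hp hf hg ho
      have h1 := hcen y⁻¹ ((Q U C p).inv_mem hy)
      rw [inv_inv] at h1
      have h2 : y * f ^ k * y⁻¹ = (y * f * y⁻¹) ^ k := by rw [conj_pow]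
      rw [h2]
      exact mem_centralizer_singleton_iff.mpr ((show Commute (y * f * y⁻¹) r from h1).pow_left k).eq
    exact mem_centralizer_singleton_iff.mp (hle hx)
  refine ⟨u⁻¹, ?_, r, hrR, ?_⟩
  · have h1 : u⁻¹ ∈ K U q := by
      have h2 : u⁻¹ = r⁻¹ * d := by rw [hrdef]; group
      rw [h2]
      exact mul_mem (inv_mem (R0_le_K h hp hq hpq hrR)) hdq
    have h3 : u⁻¹ ∈ K U q ⊓ U p := ⟨h1, (U p).inv_mem hu⟩
    rw [K_inf_U h hq hp hpq.symm] at h3
    exact ⟨h3.2, h3.1⟩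
  · rw [hrdef]
    calc d = d * u⁻¹ * u := by group
      _ = u⁻¹ * d * u := by rw [K_comm hdp (inv_mem hu)]
      _ = _ := by group

/-! ### `R0_p ⊓ R0_q = 1` -/

theorem mem_V (h : Tri V U C) (hp : Pt V p) (hq : Pt V q) (hpq : p ≠ q) {v : G} (hv : v ∈ V) :
    v = 1 ∨ v = p ∨ v = q ∨ v = p * q := by
  classical
  obtain ⟨h1, h2, h3⟩ := h.third hp hq hpq
  have hsub : (({1, p, q, p * q} : Finset G) : Set G) ⊆ (V : Set G) := by
    intro x hx
    simp only [Finset.coe_insert, Finset.coe_singleton, Set.mem_insert_iff, Set.mem_singleton_iff] at hx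
    rcases hx with rfl | rfl | rfl | rfl
    · exact one_mem V
    · exact hp.1
    · exact hq.1
    · exact h1.1
  have hc : ({1, p, q, p * q} : Finset G).card = 4 := by
    rw [Finset.card_eq_succ]
    refine ⟨1, {p, q, p * q}, ?_, rfl, Finset.card_eq_three.mpr ⟨p, q, p * q, hpq, h2.symm, h3.symm, rfl⟩⟩
    simp only [Finset.mem_insert, Finset.mem_singleton, not_or]
    exact ⟨hp.2.symm, hq.2.symm, h1.2.symm⟩
  have heq : (({1, p, q, p * q} : Finset G) : Set G) = (V : Set G) := by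
    refine Set.eq_of_subset_of_ncard_le hsub ?_ (Set.toFinite _)
    rw [Set.ncard_coe_finset, hc]
    exact le_of_eq h.cardV
  have hv' : v ∈ (V : Set G) := hv
  rw [← heq] at hv'
  simpa only [Finset.coe_insert, Finset.coe_singleton, Set.mem_insert_iff, Set.mem_singleton_iff] using hv'

omit [Finite G] in
theorem oddGen_conj (g : G) (X : Subgroup G) {x : G} (hx : x ∈ oddGen X) : g * x * g⁻¹ ∈ oddGen (cj g X) := by
  have h1 : oddGen X ≤ (oddGen (cj g X)).comap (MulAut.conj g).toMonoidHom := by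
    rw [Cfsg.Agent.MinSimple.VModule.oddGen_def, closure_le]
    rintro y ⟨hy, ho⟩
    change g * y * g⁻¹ ∈ oddGen (cj g X)
    refine mem_oddGen (conj_mem_cj hy) ?_
    have : orderOf (g * y * g⁻¹) = orderOf y := by
      rw [← MulAut.conj_apply]; exact (MulAut.conj g).orderOf_eq y
    rw [this]; exact ho
  exact h1 hx

omit [Finite G] in
theorem R0_conj (h : Tri V U C) (hp : Pt V p) {n k : G} (hn : n ∈ normalizer (V : Set G)) (hk : k ∈ R0 U C p) :
    n * k * n⁻¹ ∈ R0 U C (n * p * n⁻¹) := by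
  rw [mem_R0] at hk ⊢
  constructor
  · rw [mem_centralizer_iff]
    intro u hu
    rw [SetLike.mem_coe, ← h.conjU n hn p hp, mem_cj] at hu
    have := K_comm hk.1 hu
    calc u * (n * k * n⁻¹) = n * ((n⁻¹ * u * n) * k) * n⁻¹ := by group
      _ = n * (k * (n⁻¹ * u * n)) * n⁻¹ := by rw [this]
      _ = n * k * n⁻¹ * u := by group
  · intro x hx
    rw [← h.conjC n hn p hp] at hx
    have h1 := oddGen_conj n⁻¹ _ hx
    rw [cj_inv_cj, inv_inv] at h1
    have h2 := hk.2 _ h1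
    calc x * (n * k * n⁻¹) = n * ((n⁻¹ * x * n) * k) * n⁻¹ := by group
      _ = n * (k * (n⁻¹ * x * n)) * n⁻¹ := by rw [h2]
      _ = n * k * n⁻¹ * x := by group

/-- `C_p = X_p N_{C_p}(V)` -/
theorem C_le_of (h : Tri V U C) (hp : Pt V p) {N : Subgroup G} (h1 : oddGen (C p) ≤ N)
    (h2 : normalizer (V : Set G) ≤ N) : C p ≤ N := by
  obtain ⟨q, hq, hpq⟩ := exists_other h hp
  obtain ⟨c, hc, hcc⟩ := exists_four h hp hq hpq
  obtain ⟨f, hf⟩ := exists_isF h hp
  have hQV : Q U C p ≤ normalizer (V : Set G) := by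
    refine Cfsg.Agent.ZN.Block.le_normalizer_of_forall fun x hx v hv => ?_
    rcases ((h.mem_Q_iff hp).mp hx).2 v (h.V_le p hp hv) with e | e
    · rw [e]; exact hv
    · rw [e]; exact mul_mem hp.1 hv
  have hcV : centralizer (V : Set G) ≤ normalizer (V : Set G) := by
    intro g hg
    have hg' := mem_centralizer_iff.mp hg
    refine Cfsg.Agent.ZN.Block.mem_normalizer_of (fun m hm => ?_) (fun m hm => ?_)
    · rw [← hg' m hm, mul_inv_cancel_right]; exact hm
    · rw [mul_assoc, hg' m hm, inv_mul_cancel_left]; exact hm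
  set Y := C p ⊓ N with hY
  have hQC : Q U C p ≤ C p := Tri.kst_le _ _ _
  have hQY : Q U C p ≤ Y := le_inf hQC (hQV.trans h2)
  have hYC : Y ≤ C p := inf_le_left
  have h3 : (Q U C p).relIndex Y * Y.relIndex (C p) = 20 := by
    rw [relIndex_mul_relIndex _ _ _ hQY hYC, relIndex_Q h hp]
  have hn : ((Q U C p).subgroupOf Y).Normal := by
    refine ⟨fun x hx l => ?_⟩
    rw [mem_subgroupOf] at hx ⊢
    exact conj_mem_of_normalizer (h.C_le_normQ hp) (hYC l.2) hx
  have hpow : ∀ x ∈ Y, x ^ (Q U C p).relIndex Y ∈ Q U C p := by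
    intro x hx
    have h4 := Subgroup.pow_index_mem ((Q U C p).subgroupOf Y) (⟨x, hx⟩ : Y)
    rw [← Subgroup.relIndex, mem_subgroupOf] at h4
    exact h4
  have hfY : f ∈ Y := ⟨hf.mem, h1 (mem_oddGen hf.mem hf.odd)⟩
  have hcY : c ∈ Y := ⟨h.centV_le hp hc, h2 (hcV hc)⟩
  have hf1 := hpow f hfY
  have hc1 := hpow c hcY
  set n := (Q U C p).relIndex Y with hndef
  have hn20 : n ∣ 20 := Dvd.intro _ h3
  have h5 : 5 ∣ n := by
    by_contra h5
    have hcop : Nat.Coprime n 5 := ((Nat.Prime.coprime_iff_not_dvd (by norm_num)).mpr h5).symm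
    apply hf.notMem
    have h6 := Nat.gcd_eq_gcd_ab n 5
    rw [hcop.gcd_eq_one] at h6
    have h7 : f = (f ^ n) ^ (n.gcdA 5) * (f ^ 5) ^ (n.gcdB 5) := by
      rw [← zpow_natCast f n, ← zpow_natCast f 5, ← zpow_mul, ← zpow_mul, ← zpow_add]
      have : ((n : ℤ) * n.gcdA 5 + ((5 : ℕ) : ℤ) * n.gcdB 5) = 1 := by
        have := h6; push_cast at this ⊢; linarith
      rw [this, zpow_one]
    rw [h7]
    exact mul_mem (zpow_mem hf1 _) (zpow_mem hf.pow _)
  have hnle : n ≤ 20 := Nat.le_of_dvd (by norm_num) hn20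
  have hn' : n = 5 ∨ n = 10 ∨ n = 20 := by
    obtain ⟨m, hm⟩ := h5
    have : m ≤ 4 := by omega
    interval_cases m
    · rw [hm] at hn20; norm_num at hn20
    · left; exact hm
    · right; left; exact hm
    · rw [hm] at hn20; norm_num at hn20
    · right; right; exact hm
  have hn20' : n = 20 := by
    by_contra hne
    have hc10 : (c ^ 2) ^ 5 ∈ Q U C p := by
      rw [← pow_mul]
      rcases hn' with e | e | e
      · rw [e] at hc1
        have := pow_mem hc1 2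
        rwa [← pow_mul] at this
      · rw [e] at hc1; exact hc1
      · exact absurd e hne
    obtain ⟨k, hk⟩ := exists_pow_of_mem_centV h hp hc
    have h6 : Nat.Coprime 5 (orderOf (c ^ 2)) := by
      have h7 : orderOf (c ^ 2) ∣ 2 ^ k := (orderOf_pow_dvd 2).trans (orderOf_dvd_of_pow_eq_one hk)
      exact Nat.Coprime.coprime_dvd_right h7 (Nat.Coprime.pow_right k (by norm_num))
    obtain ⟨m, hm⟩ := exists_pow_eq_self_of_coprime h6
    apply hcc
    rw [← pow_two, ← hm]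
    exact pow_mem hc10 m
  rw [hn20'] at h3
  have h8 : Y.relIndex (C p) = 1 := by omega
  exact (relIndex_eq_one.mp h8).trans inf_le_right

/-- the intersection of the groups `R0_x` -/
def Rs (V : Subgroup G) (U C : G → Subgroup G) : Subgroup G where
  carrier := {x | ∀ p, Pt V p → x ∈ R0 U C p}
  mul_mem' := fun ha hb p hp => mul_mem (ha p hp) (hb p hp)
  one_mem' := fun _ _ => one_mem _
  inv_mem' := fun ha p hp => inv_mem (ha p hp)

omit [Finite G] in
theorem mem_Rs {x : G} : x ∈ Rs V U C ↔ ∀ p, Pt V p → x ∈ R0 U C p := Iff.rfl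

theorem Rs_eq_bot (h : Tri V U C) (hp : Pt V p) : Rs V U C = ⊥ := by
  have hN : normalizer (V : Set G) ≤ normalizer (Rs V U C : Set G) := by
    refine Cfsg.Agent.ZN.Block.le_normalizer_of_forall fun n hn x hx => ?_
    intro q hq
    have hq' : Pt V (n⁻¹ * q * n) := by
      refine ⟨conj_mem_of_normalizer' (le_refl (normalizer (V : Set G))) hn hq.1, fun e => hq.2 ?_⟩
      have : q = n * (n⁻¹ * q * n) * n⁻¹ := by group
      rw [this, e]; group
    have h1 := R0_conj h hq' hn (hx _ hq')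
    have e : n * (n⁻¹ * q * n) * n⁻¹ = q := by group
    rwa [e] at h1
  refine h.nonloc p hp _ ((isPGroup_K h hp).to_le (fun x hx => (mem_R0.mp (hx p hp)).1)) ?_ hN
  refine C_le_of h hp ?_ hN
  intro x hx
  have hc : ∀ r ∈ Rs V U C, x * r * x⁻¹ = r := fun r hr => by
    rw [(mem_R0.mp (hr p hp)).2 x hx, mul_inv_cancel_right]
  have hc' : ∀ r ∈ Rs V U C, x⁻¹ * r * x = r := fun r hr => by
    rw [mul_assoc, ← (mem_R0.mp (hr p hp)).2 x hx, inv_mul_cancel_left]
  exact Cfsg.Agent.ZN.Block.mem_normalizer_of (fun m hm => by rw [hc m hm]; exact hm)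
    (fun m hm => by rw [hc' m hm]; exact hm)

/-- the group `N_G(V) ⊓ C_G(s)` is a 2-group -/
theorem isPGroup_NC (h : Tri V U C) {s : G} (hs : Pt V s) :
    IsPGroup 2 ↥(normalizer (V : Set G) ⊓ centralizer ({s} : Set G)) := by
  obtain ⟨p, hp, hsp⟩ := exists_other h hs
  rintro ⟨g, hg⟩
  have hgs : g * s = s * g := mem_centralizer_singleton_iff.mp hg.2
  have hgV : g * p * g⁻¹ ∈ V := conj_mem_of_normalizer (le_refl (normalizer (V : Set G))) hg.1 hp.1
  have hss := h.pp hs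
  have key : g * p * g⁻¹ = p ∨ g * p * g⁻¹ = s * p := by
    rcases mem_V h hs hp hsp hgV with e | e | e | e
    · exact absurd (conj_eq_one_iff.mp e) hp.2
    · exfalso
      apply hsp
      have : p = g⁻¹ * (g * p * g⁻¹) * g := by group
      rw [this, e, mul_assoc, ← hgs]; group
    · exact Or.inl e
    · exact Or.inr e
  have h2 : g ^ 2 ∈ centralizer (V : Set G) := by
    have c1 : g ^ 2 * s = s * g ^ 2 := ((show Commute g s from hgs).pow_left 2).eq
    have c2 : g ^ 2 * p * (g ^ 2)⁻¹ = p := by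
      have e : g ^ 2 * p * (g ^ 2)⁻¹ = g * (g * p * g⁻¹) * g⁻¹ := by rw [pow_two]; group
      rw [e]
      rcases key with e | e
      · rw [e, e]
      · rw [e]
        calc g * (s * p) * g⁻¹ = (g * s) * g⁻¹ * (g * p * g⁻¹) := by group
          _ = s * (s * p) := by rw [hgs, mul_inv_cancel_right, e]
          _ = p := by rw [← mul_assoc, hss, one_mul]
    have c3 : g ^ 2 * p = p * g ^ 2 := mul_inv_eq_iff_eq_mul.mp c2
    refine mem_centralizer_iff.mpr fun v hv => ?_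
    rcases mem_V h hs hp hsp hv with e | e | e | e
    · rw [e]; simp
    · rw [e, c1]
    · rw [e, c3]
    · rw [e]
      exact ((show Commute (g ^ 2) s from c1).mul_right (show Commute (g ^ 2) p from c3)).eq.symm
  obtain ⟨k, hk⟩ := isPGroup_centV h hs ⟨g ^ 2, h2⟩
  have hk' : (g ^ 2) ^ 2 ^ k = 1 := congrArg Subtype.val hk
  refine ⟨k + 1, Subtype.ext ?_⟩
  change g ^ 2 ^ (k + 1) = 1
  rw [pow_succ', pow_mul, hk']

omit [Finite G] in
/-- a 2-group acting on a nontrivial 2-group has a nontrivial fixed point -/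
theorem exists_fixed [Finite G] {P A : Subgroup G} (hP : IsPGroup 2 P) (hA : IsPGroup 2 A)
    (hn : P ≤ normalizer (A : Set G)) (hA1 : A ≠ ⊥) : ∃ a ∈ A, a ≠ 1 ∧ ∀ x ∈ P, x * a = a * x := by
  have hpf : Fact (Nat.Prime 2) := ⟨Nat.prime_two⟩
  let _ : MulAction P A :=
    { smul := fun x a => ⟨x * a * (x : G)⁻¹, conj_mem_of_normalizer hn x.2 a.2⟩
      one_smul := fun a => Subtype.ext (by change (1 : G) * a * (1 : G)⁻¹ = a; group)
      mul_smul := fun x y a => Subtype.ext (by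
        change ((x : G) * y) * a * ((x : G) * y)⁻¹ = x * (y * a * (y : G)⁻¹) * (x : G)⁻¹
        group) }
  have h2 : 2 ∣ Nat.card A := by
    obtain ⟨n, hn'⟩ := IsPGroup.iff_card.mp hA
    rcases Nat.eq_zero_or_pos n with e | e
    · exfalso
      rw [e, pow_zero] at hn'
      exact hA1 (Subgroup.card_eq_one.mp hn')
    · rw [hn']
      exact dvd_pow_self 2 e.ne'
  obtain ⟨b, hb, hb1⟩ := hP.exists_fixed_point_of_prime_dvd_card_of_fixed_point A h2 (a := 1) (by
    intro x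
    apply Subtype.ext
    change (x : G) * 1 * (x : G)⁻¹ = 1
    group)
  refine ⟨b, b.2, fun e => hb1 (Subtype.ext e.symm), fun x hx => ?_⟩
  have h3 : (x : G) * b * (x : G)⁻¹ = b := congrArg Subtype.val (hb ⟨x, hx⟩)
  exact mul_inv_eq_iff_eq_mul.mp h3

/-- `R0_p ⊓ R0_q = 1` from the absence of `N_G(V)`-fixed involutions -/
theorem R0_inf_fix (h : Tri V U C)
    (hfix : ∀ d ∈ centralizer (V : Set G), d * d = 1 → (∀ n ∈ normalizer (V : Set G), n * d = d * n) → d = 1)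
    (hp : Pt V p) (hq : Pt V q) (hpq : p ≠ q) : R0 U C p ⊓ R0 U C q = ⊥ := by
  by_contra hA1
  obtain ⟨hs, hsp, hsq⟩ := h.third hp hq hpq
  have hpp := h.pp hp
  have hqq := h.pp hq
  have hcomm := h.commV hp hq
  set s := p * q with hsdef
  have hbot := Rs_eq_bot h hp
  have hRs1 : ∀ x, x ∈ R0 U C p → x ∈ R0 U C q → x ∈ R0 U C s → x = 1 := by
    intro x h1 h2 h3
    have : x ∈ Rs V U C := by
      intro r hr
      rcases mem_V h hp hq hpq hr.1 with e | e | e | e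
      · exact absurd e hr.2
      · rw [e]; exact h1
      · rw [e]; exact h2
      · rw [e]; exact h3
    rw [hbot] at this
    exact mem_bot.mp this
  -- the swap: `N_G(V) ⊓ C_G(s)` normalises `R0_p ⊓ R0_q`
  have hNA : normalizer (V : Set G) ⊓ centralizer ({s} : Set G) ≤ normalizer ((R0 U C p ⊓ R0 U C q : Subgroup G) : Set G) := by
    refine Cfsg.Agent.ZN.Block.le_normalizer_of_forall fun n hn x hx => ?_
    have hns : n * s * n⁻¹ = s := by
      rw [mem_centralizer_singleton_iff.mp hn.2, mul_inv_cancel_right]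
    have h1 := R0_conj h hp hn.1 hx.1
    have h2 := R0_conj h hq hn.1 hx.2
    have hnp : Pt V (n * p * n⁻¹) := ⟨conj_mem_of_normalizer (le_refl (normalizer (V : Set G))) hn.1 hp.1,
      fun e => hp.2 (conj_eq_one_iff.mp e)⟩
    have hpq' : (n * p * n⁻¹) * (n * q * n⁻¹) = s := by
      rw [← hns, hsdef]; group
    have hnpp := h.pp hnp
    have hnq : n * q * n⁻¹ = (n * p * n⁻¹) * s := by
      rw [← hpq', ← mul_assoc, hnpp, one_mul]
    rcases mem_V h hp hq hpq hnp.1 with e | e | e | e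
    · exact absurd e hnp.2
    · rw [hnq, e] at h2
      rw [e] at h1
      have e2 : p * s = q := by rw [hsdef, ← mul_assoc, hpp, one_mul]
      rw [e2] at h2
      exact ⟨h1, h2⟩
    · rw [hnq, e] at h2
      rw [e] at h1
      have e2 : q * s = p := by rw [hcomm, ← mul_assoc, hqq, one_mul]
      rw [e2] at h2
      exact ⟨h2, h1⟩
    · exfalso
      apply hp.2
      have e3 : n * p * n⁻¹ = n * s * n⁻¹ := by rw [e, hns]
      have e4 : p = s := by
        have := congrArg (fun x => n⁻¹ * x * n) e3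
        simpa [mul_assoc] using this
      exact absurd e4.symm hsp
  have hA2 : IsPGroup 2 ↥(R0 U C p ⊓ R0 U C q) := (isPGroup_K h hp).to_le (inf_le_left.trans inf_le_left)
  obtain ⟨a, ⟨hap, haq⟩, ha1, hfixa⟩ := exists_fixed (isPGroup_NC h hs) hA2 hNA hA1
  -- the three conjugates
  have key : ∀ m ∈ normalizer (V : Set G), ∀ m' ∈ normalizer (V : Set G), m * s * m⁻¹ = m' * s * m'⁻¹ →
      m * a * m⁻¹ = m' * a * m'⁻¹ := by
    intro m hm m' hm' e
    have h1 : m'⁻¹ * m ∈ normalizer (V : Set G) ⊓ centralizer ({s} : Set G) := by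
      refine inf_mk (mul_mem (inv_mem hm') hm) (mem_centralizer_singleton_iff.mpr ?_)
      calc m'⁻¹ * m * s = m'⁻¹ * (m * s * m⁻¹) * m := by group
        _ = m'⁻¹ * (m' * s * m'⁻¹) * m := by rw [e]
        _ = s * (m'⁻¹ * m) := by group
    have h2 := hfixa _ h1
    calc m * a * m⁻¹ = m' * (m'⁻¹ * m * a) * m⁻¹ := by group
      _ = m' * (a * (m'⁻¹ * m)) * m⁻¹ := by rw [h2]
      _ = m' * a * m'⁻¹ := by group
  obtain ⟨n, hn, hn1, hn2⟩ := h.sym s p p q hs hp hsp hp hq hpq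
  have hn3 : n * q * n⁻¹ = s := by
    have e : q = p * s := by rw [hsdef, ← mul_assoc, hpp, one_mul]
    calc n * q * n⁻¹ = (n * p * n⁻¹) * (n * s * n⁻¹) := by rw [e]; group
      _ = q * p := by rw [hn1, hn2]
      _ = s := hcomm.symm
  set b := n * a * n⁻¹ with hb
  set c := n * b * n⁻¹ with hc
  have hbq : b ∈ R0 U C q := by have := R0_conj h hp hn hap; rwa [hn2] at this
  have hbs : b ∈ R0 U C s := by have := R0_conj h hq hn haq; rwa [hn3] at this
  have hcs : c ∈ R0 U C s := by have := R0_conj h hq hn hbq; rwa [hn3] at this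
  have hcp : c ∈ R0 U C p := by have := R0_conj h hs hn hbs; rwa [hn1] at this
  have hKa : a ∈ K U p ∧ a ∈ K U q ∧ a ∈ K U s :=
    ⟨(mem_R0.mp hap).1, (mem_R0.mp haq).1, R0_le_K h hp hs hsp.symm hap⟩
  have hKb : b ∈ K U p ∧ b ∈ K U q ∧ b ∈ K U s :=
    ⟨R0_le_K h hq hp hpq.symm hbq, (mem_R0.mp hbq).1, (mem_R0.mp hbs).1⟩
  have hKc : c ∈ K U p ∧ c ∈ K U q ∧ c ∈ K U s :=
    ⟨(mem_R0.mp hcp).1, R0_le_K h hp hq hpq hcp, (mem_R0.mp hcs).1⟩
  have hcm : ∀ {x y : G}, (x ∈ K U p ∧ x ∈ K U q ∧ x ∈ K U s) → (y ∈ K U p ∧ y ∈ K U q ∧ y ∈ K U s) →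
      x * y = y * x := by
    intro x y hx hy
    have h1 := hRs1 _ (comm_mem_R0 h hp hx.1 hy.1) (comm_mem_R0 h hq hx.2.1 hy.2.1)
      (comm_mem_R0 h hs hx.2.2 hy.2.2)
    exact mul_inv_eq_iff_eq_mul.mp (mul_inv_eq_one.mp h1)
  have hsq : ∀ {x : G}, (x ∈ K U p ∧ x ∈ K U q ∧ x ∈ K U s) → x * x = 1 := by
    intro x hx
    exact hRs1 _ (sq_mem_R0 h hp hx.1) (sq_mem_R0 h hq hx.2.1) (sq_mem_R0 h hs hx.2.2)
  have cab := hcm hKa hKb
  have cac := hcm hKa hKc
  have cbc := hcm hKb hKc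
  have hd1 : a * b * c = 1 := by
    refine hfix _ ?_ ?_ ?_
    · exact mul_mem (mul_mem (h.K_le_centV hp hKa.1) (h.K_le_centV hp hKb.1)) (h.K_le_centV hp hKc.1)
    · have h1 := hsq hKa
      have h2 := hsq hKb
      have h3 := hsq hKc
      calc a * b * c * (a * b * c) = a * (b * (c * a) * b) * c := by group
        _ = a * (b * (a * c) * b) * c := by rw [cac]
        _ = a * ((b * a) * (c * b)) * c := by group
        _ = a * ((a * b) * (b * c)) * c := by rw [cab, cbc]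
        _ = (a * a) * (b * b) * (c * c) := by group
        _ = 1 := by rw [h1, h2, h3]; group
    · intro m hm
      have kb : ∀ m ∈ normalizer (V : Set G), m * b * m⁻¹ = (m * n) * a * (m * n)⁻¹ := by
        intro m hm; rw [hb]; group
      have kc : ∀ m ∈ normalizer (V : Set G), m * c * m⁻¹ = (m * n * n) * a * (m * n * n)⁻¹ := by
        intro m hm; rw [hc, hb]; group
      -- values of the conjugate at the three points
      have vs : ∀ m ∈ normalizer (V : Set G), m * s * m⁻¹ = s → m * a * m⁻¹ = a := by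
        intro m hm e
        have := key m hm 1 (one_mem _) (by rw [e]; group)
        rw [this]; group
      have vp : ∀ m ∈ normalizer (V : Set G), m * s * m⁻¹ = p → m * a * m⁻¹ = b := by
        intro m hm e
        exact key m hm n hn (by rw [e, hn1])
      have vq : ∀ m ∈ normalizer (V : Set G), m * s * m⁻¹ = q → m * a * m⁻¹ = c := by
        intro m hm e
        have h1 := key m hm (n * n) (mul_mem hn hn) (by
          rw [e, ← hn2, ← hn1]; group)
        rw [h1, hc, hb]; group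
      have hmn := mul_mem hm hn
      have hmnn := mul_mem hmn hn
      have ms : Pt V (m * s * m⁻¹) := ⟨conj_mem_of_normalizer (le_refl (normalizer (V : Set G))) hm hs.1,
        fun e => hs.2 (conj_eq_one_iff.mp e)⟩
      have mp : Pt V (m * p * m⁻¹) := ⟨conj_mem_of_normalizer (le_refl (normalizer (V : Set G))) hm hp.1,
        fun e => hp.2 (conj_eq_one_iff.mp e)⟩
      have msp : m * s * m⁻¹ ≠ m * p * m⁻¹ := fun e => hsp (by
        have := congrArg (fun x => m⁻¹ * x * m) e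
        simpa [mul_assoc] using this)
      have mqe : m * q * m⁻¹ = (m * p * m⁻¹) * (m * s * m⁻¹) := by
        have e : q = p * s := by rw [hsdef, ← mul_assoc, hpp, one_mul]
        nth_rewrite 1 [e]
        group
      have ebn : m * n * s * (m * n)⁻¹ = m * p * m⁻¹ := by rw [← hn1]; group
      have ecn : m * n * n * s * (m * n * n)⁻¹ = m * q * m⁻¹ := by rw [← hn2, ← hn1]; group
      have hpsq : p * s = q := by rw [hsdef, ← mul_assoc, hpp, one_mul]
      have hqsp : q * s = p := by rw [hcomm, ← mul_assoc, hqq, one_mul]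
      have hsqp : s * q = p := by rw [hsdef, mul_assoc, hqq, mul_one]
      have hspq : s * p = q := by rw [hcomm, mul_assoc, hpp, mul_one]
      have hfin : m * (a * b * c) * m⁻¹ = a * b * c := by
        have e0 : m * (a * b * c) * m⁻¹ = (m * a * m⁻¹) * (m * b * m⁻¹) * (m * c * m⁻¹) := by group
        rw [e0, kb m hm, kc m hm]
        rcases mem_V h hp hq hpq ms.1 with e | e | e | e
        · exact absurd e ms.2
        · -- `s ↦ p`
          rw [vp m hm e]
          rcases mem_V h hp hq hpq mp.1 with e' | e' | e' | e'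
          · exact absurd e' mp.2
          · exact absurd (e.trans e'.symm) msp
          · -- `p ↦ q`, `q ↦ s`
            rw [vq _ hmn (by rw [ebn, e']), vs _ hmnn (by rw [ecn, mqe, e', e, ← hcomm])]
            rw [mul_assoc, ← cac, ← mul_assoc, ← cab]
          · -- `p ↦ s`, `q ↦ q`
            rw [vs _ hmn (by rw [ebn, e']), vq _ hmnn (by rw [ecn, mqe, e', e]; exact hspq), cab]
        · -- `s ↦ q`
          rw [vq m hm e]
          rcases mem_V h hp hq hpq mp.1 with e' | e' | e' | e'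
          · exact absurd e' mp.2
          · rw [vp _ hmn (by rw [ebn, e']), vs _ hmnn (by rw [ecn, mqe, e', e])]
            rw [mul_assoc, ← cab, ← mul_assoc, ← cac, mul_assoc, ← cbc, ← mul_assoc]
          · exact absurd (e.trans e'.symm) msp
          · rw [vs _ hmn (by rw [ebn, e']), vp _ hmnn (by rw [ecn, mqe, e', e]; exact hsqp)]
            rw [← cac, mul_assoc, ← cbc, ← mul_assoc]
        · -- `s ↦ s`
          rw [vs m hm e]
          rcases mem_V h hp hq hpq mp.1 with e' | e' | e' | e'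
          · exact absurd e' mp.2
          · rw [vp _ hmn (by rw [ebn, e']), vq _ hmnn (by rw [ecn, mqe, e', e]; exact hpsq)]
          · rw [vq _ hmn (by rw [ebn, e']), vp _ hmnn (by rw [ecn, mqe, e', e]; exact hqsp)]
            rw [mul_assoc, ← cbc, ← mul_assoc]
          · exact absurd (e.trans e'.symm) msp
      exact mul_inv_eq_iff_eq_mul.mp hfin
  have has : a ∈ R0 U C s := by
    have : a = c⁻¹ * b⁻¹ := by
      rw [← mul_inv_rev, eq_inv_iff_mul_eq_one, ← mul_assoc]; exact hd1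
    rw [this]
    exact mul_mem (inv_mem hcs) (inv_mem hbs)
  exact ha1 (hRs1 a hap haq has)

theorem R0_inf (h : Tri V U C) (hp : Pt V p) (hq : Pt V q) (hpq : p ≠ q) {k : G} (hk : k ∈ R0 U C p)
    (hk' : k ∈ R0 U C q) : k = 1 := by
  have h1 : R0 U C p ⊓ R0 U C q = ⊥ := by
    rcases h.alt with hfix | ⟨hcen, hloc⟩
    · exact R0_inf_fix h hfix hp hq hpq
    refine killX h hcen hloc hp hq hpq ((isPGroup_K h hp).to_le (inf_le_left.trans inf_le_left)) ?_ ?_
    · intro x hx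
      have hc : ∀ r ∈ R0 U C p ⊓ R0 U C q, x * r * x⁻¹ = r := fun r hr => by
        rw [(mem_R0.mp hr.1).2 x hx, mul_inv_cancel_right]
      have hc' : ∀ r ∈ R0 U C p ⊓ R0 U C q, x⁻¹ * r * x = r := fun r hr => by
        rw [mul_assoc, ← (mem_R0.mp hr.1).2 x hx, inv_mul_cancel_left]
      exact Cfsg.Agent.ZN.Block.mem_normalizer_of (fun m hm => by rw [hc m hm]; exact hm)
        (fun m hm => by rw [hc' m hm]; exact hm)
    · intro x hx
      have hc : ∀ r ∈ R0 U C p ⊓ R0 U C q, x * r * x⁻¹ = r := fun r hr => by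
        rw [(mem_R0.mp hr.2).2 x hx, mul_inv_cancel_right]
      have hc' : ∀ r ∈ R0 U C p ⊓ R0 U C q, x⁻¹ * r * x = r := fun r hr => by
        rw [mul_assoc, ← (mem_R0.mp hr.2).2 x hx, inv_mul_cancel_left]
      exact Cfsg.Agent.ZN.Block.mem_normalizer_of (fun m hm => by rw [hc m hm]; exact hm)
        (fun m hm => by rw [hc' m hm]; exact hm)
  have : k ∈ R0 U C p ⊓ R0 U C q := ⟨hk, hk'⟩
  rw [h1] at this
  exact mem_bot.mp this

/-! ### `R0_p = ⟨p⟩` -/

theorem eq_one_or_of_R0 (h : Tri V U C) (hp : Pt V p) (hq : Pt V q) (hpq : p ≠ q) {k : G} (hk : k ∈ R0 U C p) :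
    k = 1 ∨ k = p := by
  have hkp := (mem_R0.mp hk).1
  have hkq := R0_le_K h hp hq hpq hk
  obtain ⟨e, he, r, hr, rfl⟩ := D_eq h hq hp hpq.symm hkq hkp
  obtain ⟨c, hc, hcV, e', he', hce'⟩ := exists_move_E h hp hq hpq
  obtain ⟨x, hxX, hxQ, k', hk', rfl⟩ := exists_X h hp hc
  have hxV : x ∈ centralizer (V : Set G) := by
    have : x = (x * k') * k'⁻¹ := by group
    rw [this]
    exact mul_mem hcV (inv_mem (h.K_le_centV hp hk'))
  have hxe' : x * e' * x⁻¹ = p * e' := by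
    rw [← hce']
    have := K_comm hk' he'.1
    calc x * e' * x⁻¹ = x * (e' * k') * k'⁻¹ * x⁻¹ := by group
      _ = x * (k' * e') * k'⁻¹ * x⁻¹ := by rw [this]
      _ = _ := by group
  have hxC : x ∈ C q := h.centV_le hq hxV
  have hxr : x * r * x⁻¹ ∈ R0 U C q := R0_norm h hq hxC hr
  have hxk : x * (e * r) = (e * r) * x := (mem_R0.mp hk).2 x hxX
  have h1 : e⁻¹ * (x * e * x⁻¹) ∈ R0 U C q := by
    have : e⁻¹ * (x * e * x⁻¹) = r * (x * r * x⁻¹)⁻¹ := by
      have h2 : x * e * x⁻¹ = (e * r) * (x * r * x⁻¹)⁻¹ := by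
        calc x * e * x⁻¹ = (x * (e * r)) * x⁻¹ * (x * r * x⁻¹)⁻¹ := by group
          _ = ((e * r) * x) * x⁻¹ * (x * r * x⁻¹)⁻¹ := by rw [hxk]
          _ = _ := by group
      rw [h2]
      group
    rw [this]
    exact mul_mem hr (inv_mem hxr)
  have hxe : x * e * x⁻¹ = e := by
    rcases ((h.mem_Q_iff hp).mp hxQ).2 e he.2 with h2 | h2
    · exact h2
    · exfalso
      have h3 : e⁻¹ * (x * e * x⁻¹) = p := by
        rw [h2, h.commU hp (h.V_le p hp hp.1) he.2, inv_mul_cancel_left]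
      rw [h3] at h1
      rcases R0_inf_U h hq h1 (h.V_le q hq hp.1) with h4 | h4
      · exact hp.2 h4
      · exact hpq h4
  -- `e ∈ V`
  have heV : e ∈ V := by
    have hle : V ≤ (U p ⊓ U q) ⊓ centralizer ({x} : Set G) := by
      intro v hv
      exact ⟨⟨h.V_le p hp hv, h.V_le q hq hv⟩, mem_centralizer_singleton_iff.mpr (mem_centralizer_iff.mp hxV v hv)⟩
    have h8 := card_E h hp hq hpq
    have hlt : (U p ⊓ U q) ⊓ centralizer ({x} : Set G) ≠ U p ⊓ U q := by
      intro heq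
      have : e' ∈ (U p ⊓ U q) ⊓ centralizer ({x} : Set G) := by rw [heq]; exact he'
      have h5 := mem_centralizer_singleton_iff.mp this.2
      rw [← h5, mul_inv_cancel_right] at hxe'
      exact hp.2 (by simpa using hxe')
    have hdvd := card_dvd_of_le (inf_le_left : (U p ⊓ U q) ⊓ centralizer ({x} : Set G) ≤ U p ⊓ U q)
    have hge := Nat.le_of_dvd Nat.card_pos (card_dvd_of_le hle)
    rw [h.cardV] at hge
    rw [h8] at hdvd
    have hne : Nat.card ↥((U p ⊓ U q) ⊓ centralizer ({x} : Set G)) ≠ 8 := by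
      intro h9
      exact hlt (eq_of_le_of_card_ge inf_le_left (by rw [h9, h8]))
    have h4 : Nat.card ↥((U p ⊓ U q) ⊓ centralizer ({x} : Set G)) = 4 := by
      have h10 := Nat.le_of_dvd (by norm_num) hdvd
      interval_cases hh : Nat.card ↥((U p ⊓ U q) ⊓ centralizer ({x} : Set G)) <;> omega
    have hVeq := eq_of_le_of_card_ge hle (by rw [h4, h.cardV])
    rw [hVeq]
    exact ⟨⟨he.2, he.1⟩, mem_centralizer_singleton_iff.mpr (mul_inv_eq_iff_eq_mul.mp hxe).symm⟩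
  have hpp := h.pp hp
  have hqq := h.pp hq
  have hp0 := p_mem_R0 h hp
  have hq0 := p_mem_R0 h hq
  rcases mem_V h hp hq hpq heV with rfl | rfl | rfl | rfl
  · left
    exact R0_inf h hp hq hpq hk (by rw [one_mul]; exact hr)
  · right
    have h5 : r = 1 := R0_inf h hp hq hpq (by
      have : r = e * (e * r) := by rw [← mul_assoc, hpp, one_mul]
      rw [this]; exact mul_mem hp0 hk) hr
    rw [h5, mul_one]
  · left
    exact R0_inf h hp hq hpq hk (mul_mem hq0 hr)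
  · right
    have h5 : q * r = 1 := R0_inf h hp hq hpq (by
      have : q * r = p * (p * q * r) := by
        calc q * r = (p * p) * (q * r) := by rw [hpp, one_mul]
          _ = _ := by group
      rw [this]; exact mul_mem hp0 hk) (mul_mem hq0 hr)
    rw [mul_assoc, h5, mul_one]

/-- another point -/
theorem exists_ne (h : Tri V U C) (hp : Pt V p) : ∃ q, Pt V q ∧ p ≠ q := by
  classical
  by_contra hcon
  push Not at hcon
  have hsub : (V : Set G) ⊆ (({1, p} : Finset G) : Set G) := by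
    intro v hv
    simp only [Finset.coe_insert, Finset.coe_singleton, Set.mem_insert_iff, Set.mem_singleton_iff]
    by_cases h1 : v = 1
    · exact Or.inl h1
    · exact Or.inr (hcon v ⟨hv, h1⟩).symm
  have h1 := Set.ncard_le_ncard hsub (Set.toFinite _)
  rw [Set.ncard_coe_finset] at h1
  have h2 : (V : Set G).ncard = 4 := h.cardV
  have h3 : ({1, p} : Finset G).card ≤ 2 := Finset.card_le_two
  omega

/-! ### the results -/

/-- (A10) `C_{K_p}(X_p) = ⟨p⟩` -/
theorem eq_of_cent_X (h : Tri V U C) (hp : Pt V p) {k : G} (hk : k ∈ K U p)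
    (hc : ∀ x ∈ oddGen (C p), x * k = k * x) : k = 1 ∨ k = p := by
  obtain ⟨q, hq, hpq⟩ := exists_ne h hp
  exact eq_one_or_of_R0 h hp hq hpq (mem_R0.mpr ⟨hk, hc⟩)

/-- (A10) squares of elements of `K_p` -/
theorem sq_K (h : Tri V U C) (hp : Pt V p) {k : G} (hk : k ∈ K U p) : k * k = 1 ∨ k * k = p := by
  obtain ⟨q, hq, hpq⟩ := exists_ne h hp
  exact eq_one_or_of_R0 h hp hq hpq (sq_mem_R0 h hp hk)

theorem K_inf_K (h : Tri V U C) (hp : Pt V p) (hq : Pt V q) (hpq : p ≠ q) : K U p ⊓ K U q = U p ⊓ U q := by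
  apply le_antisymm
  · rintro d ⟨hd, hd'⟩
    obtain ⟨e, he, r, hr, rfl⟩ := D_eq h hp hq hpq hd hd'
    refine mul_mem he ?_
    rcases eq_one_or_of_R0 h hp hq hpq hr with rfl | rfl
    · exact one_mem _
    · exact ⟨h.V_le _ hp hp.1, h.V_le q hq hp.1⟩
  · exact inf_le_inf (h.U_le_K hp) (h.U_le_K hq)

/-- one step: if `N ≤ K_p ⊓ Q_q` does not centralise `U_q`, then a subgroup of index 2 centralises twice as much -/
theorem step (h : Tri V U C) (hq : Pt V q) {N : Subgroup G} (hN : N ≤ Q U C q) (hNK : ¬ N ≤ K U q) :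
    ∃ N' ≤ N, Nat.card N ≤ 2 * Nat.card N' ∧
      2 * Nat.card ↥(U q ⊓ centralizer (N : Set G)) ≤ Nat.card ↥(U q ⊓ centralizer (N' : Set G)) := by
  obtain ⟨a, haU, haN⟩ : ∃ a ∈ U q, a ∉ centralizer (N : Set G) := by
    by_contra hcon
    push Not at hcon
    apply hNK
    intro x hx
    rw [mem_centralizer_iff]
    intro u hu
    exact (mem_centralizer_iff.mp (hcon u hu) x hx).symm
  refine ⟨N ⊓ centralizer ({a} : Set G), inf_le_left, ?_, ?_⟩
  · refine card_le_two_mul inf_le_left fun x hx y hy hxN hyN => mem_inf.mpr ⟨N.mul_mem (N.inv_mem hx) hy, ?_⟩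
    have key : ∀ x ∈ N, x ∉ N ⊓ centralizer ({a} : Set G) → x * a * x⁻¹ = q * a := by
      intro x hx hxN
      rcases ((h.mem_Q_iff hq).mp (hN hx)).2 a haU with e | e
      · exact absurd ⟨hx, mem_centralizer_singleton_iff.mpr (mul_inv_eq_iff_eq_mul.mp e)⟩ hxN
      · exact e
    have e1 := key x hx hxN
    have e2 := key y hy hyN
    rw [mem_centralizer_singleton_iff]
    have e3 : x⁻¹ * (q * a) * x = a := by rw [← e1]; group
    calc x⁻¹ * y * a = x⁻¹ * (y * a * y⁻¹) * y := by group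
      _ = x⁻¹ * (q * a) * y := by rw [e2]
      _ = (x⁻¹ * (q * a) * x) * (x⁻¹ * y) := by group
      _ = a * (x⁻¹ * y) := by rw [e3]
  · have hle : U q ⊓ centralizer (N : Set G) ≤ U q ⊓ centralizer ((N ⊓ centralizer ({a} : Set G) : Subgroup G) : Set G) :=
      inf_le_inf_left _ (centralizer_le (fun x hx => hx.1))
    have hne : U q ⊓ centralizer (N : Set G) ≠ U q ⊓ centralizer ((N ⊓ centralizer ({a} : Set G) : Subgroup G) : Set G) := by
      intro heq
      have ha : a ∈ U q ⊓ centralizer ((N ⊓ centralizer ({a} : Set G) : Subgroup G) : Set G) := by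
        refine ⟨haU, mem_centralizer_iff.mpr fun x hx => ?_⟩
        exact mem_centralizer_singleton_iff.mp hx.2
      rw [← heq] at ha
      exact haN ha.2
    obtain ⟨m, hm⟩ := card_dvd_of_le hle
    have hpos : 0 < Nat.card ↥(U q ⊓ centralizer (N : Set G)) := Nat.card_pos
    have hpos' : 0 < Nat.card ↥(U q ⊓ centralizer ((N ⊓ centralizer ({a} : Set G) : Subgroup G) : Set G)) := Nat.card_pos
    have hm1 : m ≠ 1 := by
      intro h1
      rw [h1, mul_one] at hm
      exact hne (eq_of_le_of_card_ge hle (le_of_eq hm))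
    have hm0 : m ≠ 0 := by
      rintro rfl
      rw [mul_zero] at hm
      omega
    have hm2 : 2 ≤ m := by omega
    rw [hm, mul_comm]
    exact Nat.mul_le_mul_left _ hm2

theorem card_K_inf_Q (h : Tri V U C) (hp : Pt V p) (hq : Pt V q) (hpq : p ≠ q) :
    Nat.card ↥(K U p ⊓ Q U C q) ≤ 32 := by
  have h8 := card_E h hp hq hpq
  -- subgroups in `K_p ⊓ K_q` have at most 8 elements
  have hend : ∀ N : Subgroup G, N ≤ K U p → N ≤ K U q → Nat.card N ≤ 8 := by
    intro N h1 h2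
    have h3 : N ≤ U p ⊓ U q := by
      rw [← K_inf_K h hp hq hpq]
      exact le_inf h1 h2
    have := Nat.le_of_dvd Nat.card_pos (card_dvd_of_le h3)
    omega
  set N0 := K U p ⊓ Q U C q with hN0
  by_cases c0 : N0 ≤ K U q
  · have := hend N0 inf_le_left c0
    omega
  obtain ⟨N1, hN1, h1, h1'⟩ := step h hq (N := N0) inf_le_right c0
  by_cases c1 : N1 ≤ K U q
  · have := hend N1 (hN1.trans inf_le_left) c1
    omega
  obtain ⟨N2, hN2, h2, h2'⟩ := step h hq (N := N1) (hN1.trans inf_le_right) c1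
  have hc0 : 8 ≤ Nat.card ↥(U q ⊓ centralizer (N0 : Set G)) := by
    have hle : U p ⊓ U q ≤ U q ⊓ centralizer (N0 : Set G) := by
      intro e he
      refine ⟨he.2, mem_centralizer_iff.mpr fun x hx => ?_⟩
      exact (K_comm hx.1 he.1).symm
    have := Nat.le_of_dvd Nat.card_pos (card_dvd_of_le hle)
    omega
  have hc2 : N2 ≤ K U q := by
    have h32 : 32 ≤ Nat.card ↥(U q ⊓ centralizer (N2 : Set G)) := by omega
    have heq : U q ⊓ centralizer (N2 : Set G) = U q := eq_of_le_of_card_ge inf_le_left (by rw [h.cardU q hq]; exact h32)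
    intro x hx
    rw [mem_centralizer_iff]
    intro u hu
    have : u ∈ U q ⊓ centralizer (N2 : Set G) := by rw [heq]; exact hu
    exact (mem_centralizer_iff.mp this.2 x hx).symm
  have := hend N2 ((hN2.trans hN1).trans inf_le_left) hc2
  omega

theorem card_K (h : Tri V U C) (hp : Pt V p) : Nat.card ↥(K U p) = 32 ∨ Nat.card ↥(K U p) = 64 := by
  obtain ⟨q, hq, hpq⟩ := exists_ne h hp
  have h1 := card_K_inf_Q h hp hq hpq
  have h2 : Nat.card ↥(K U p) ≤ 2 * Nat.card ↥(K U p ⊓ Q U C q) := by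
    refine card_le_two_mul inf_le_left fun x hx y hy hxN hyN =>
      mem_inf.mpr ⟨(K U p).mul_mem ((K U p).inv_mem hx) hy, ?_⟩
    have hsq : ∀ k ∈ K U p, k * k ∈ Q U C q := by
      intro k hk
      rcases sq_K h hp hk with e | e
      · rw [e]; exact one_mem _
      · rw [e]; exact h.K_le_Q hq (h.U_le_K hq (h.V_le q hq hp.1))
    have hm : x⁻¹ * y ∈ K U p := (K U p).mul_mem ((K U p).inv_mem hx) hy
    obtain ⟨n, hn⟩ := isPGroup_K h hp ⟨x⁻¹ * y, hm⟩
    have hn' : (x⁻¹ * y) ^ 2 ^ n = 1 := congrArg Subtype.val hn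
    refine mul_mem_Q h hq (h.K_le_C hq hp ((K U p).inv_mem hx)) (h.K_le_C hq hp hy) (hsq _ ((K U p).inv_mem hx)) (hsq _ hy) ?_ ?_
      (n := n) (by rw [hn']; exact one_mem _)
    · intro hc
      exact hxN ⟨hx, by simpa using (Q U C q).inv_mem hc⟩
    · intro hc
      exact hyN ⟨hy, hc⟩
  obtain ⟨m, hm⟩ := card_dvd_of_le (h.U_le_K hp)
  rw [h.cardU p hp] at hm
  have hpos : 0 < Nat.card ↥(K U p) := Nat.card_pos
  have : m = 1 ∨ m = 2 := by
    rcases Nat.eq_zero_or_pos m with rfl | h0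
    · omega
    · omega
  rcases this with rfl | rfl
  · left; omega
  · right; omega

end Cfsg.Agent.Omega.TitsAmal.TriTen

end
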