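import Cfsg.Agent.Mrg.Omega.TitsAmal.TriFin
import Cfsg.Agent.Mrg.Omega.TitsIso.Main
import Cfsg.Agent.Mrg.Omega.NO3S.Fit.AbsMain

section


/-!
# The Tits group from its amalgam, without solvability

`Dat V W z`: `V` is a four-group, `N_G(V)` induces `S₃` on `V`, `z ∈ V`, `W ≥ V` is elementary abelian of order 32 and
normal in `C_G(z)`, the kernel of `C_G(z)` on `W / ⟨z⟩` has index 10 or 20 in `C_G(z)`, `W` does not commute with its
conjugates `W ^ n`, `n ∈ N_G(V) - C_G(z)`, and no nontrivial 2-group is normalised by `C_G(z)` and `N_G(V)`.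

`Dat.isoTits`: if `G` is of characteristic 2 type and has no subgroup of index 2, then `G` is the Tits group.
-/

set_option autoImplicit false

namespace Cfsg.Agent.Omega.TitsAmal

open Subgroup Cfsg Cfsg.Agent.ZN Cfsg.Agent.MinSimple.Geo
open Cfsg.Agent.Classification.TitsFin
open Cfsg.Agent.Omega.TitsAmal.Tri (Pt kst cj_kst)
open Cfsg.Agent.ZN.Block (conj_mem_of_normalizer conj_mem_of_normalizer' le_normalizer_of_forall)

universe u

variable {G : Type u} [Group G]

/-- the amalgam -/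
structure Dat (V W : Subgroup G) (z : G) : Prop where
  cardV : Nat.card V = 4
  sqV : ∀ v ∈ V, v * v = 1
  zV : z ∈ V
  z1 : z ≠ 1
  trans : ∀ v ∈ V, v ≠ 1 → ∃ n ∈ normalizer (V : Set G), n * z * n⁻¹ = v
  swap : ∃ s ∈ normalizer (V : Set G), s * z * s⁻¹ = z ∧ ∃ v ∈ V, s * v * s⁻¹ ≠ v
  cardW : Nat.card W = 32
  sqW : ∀ w ∈ W, w * w = 1
  VW : V ≤ W
  CW : centralizer ({z} : Set G) ≤ normalizer (W : Set G)
  idx : (kst (centralizer ({z} : Set G)) W z).relIndex (centralizer ({z} : Set G)) = 10 ∨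
    (kst (centralizer ({z} : Set G)) W z).relIndex (centralizer ({z} : Set G)) = 20
  nc : ∀ n ∈ normalizer (V : Set G), n * z * n⁻¹ ≠ z →
    ∃ a ∈ W, ∃ b ∈ W, a * (n * b * n⁻¹) ≠ (n * b * n⁻¹) * a
  nonloc : ∀ R : Subgroup G, IsPGroup 2 R → centralizer ({z} : Set G) ≤ normalizer (R : Set G) →
    normalizer (V : Set G) ≤ normalizer (R : Set G) → R = ⊥

namespace Dat

variable {V W : Subgroup G} {z : G} (D : Dat V W z)
include D

theorem zz : z * z = 1 := D.sqV z D.zV

/-- an element `n ∈ N_G(V)` with `n z n⁻¹ = p` -/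
theorem exists_n {p : G} (hp : Pt V p) : ∃ n ∈ normalizer (V : Set G), n * z * n⁻¹ = p :=
  D.trans p hp.1 hp.2

open Classical in
omit D in
/-- the subgroup `U p = n W n⁻¹` -/
noncomputable def Uf (V W : Subgroup G) (z p : G) : Subgroup G :=
  if h : ∃ n ∈ normalizer (V : Set G), n * z * n⁻¹ = p then cj h.choose W else ⊥

theorem Uf_eq {n p : G} (hn : n ∈ normalizer (V : Set G)) (hp : n * z * n⁻¹ = p) :
    Uf V W z p = cj n W := by
  have h : ∃ n ∈ normalizer (V : Set G), n * z * n⁻¹ = p := ⟨n, hn, hp⟩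
  rw [Uf, dif_pos h]
  obtain ⟨h1, h2⟩ := h.choose_spec
  set m := h.choose with hm
  have h3 : n⁻¹ * m ∈ centralizer ({z} : Set G) := by
    rw [mem_centralizer_singleton_iff]
    have h4 : m * z * m⁻¹ = n * z * n⁻¹ := by rw [h2, hp]
    calc n⁻¹ * m * z = n⁻¹ * (m * z * m⁻¹) * m := by group
      _ = z * (n⁻¹ * m) := by rw [h4]; group
  have h5 := cj_eq_of_mem_normalizer (D.CW h3)
  calc cj m W = cj (n * (n⁻¹ * m)) W := by rw [mul_inv_cancel_left]
    _ = cj n (cj (n⁻¹ * m) W) := (cj_cj _ _ _).symm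
    _ = cj n W := by rw [h5]

theorem Uf_z : Uf V W z z = W := by
  rw [D.Uf_eq (one_mem _) (by group), cj_one]

/-- the four elements of `V` -/
theorem four {p a b : G} (hp : Pt V p) (ha : Pt V a) (hap : a ≠ p) (hb : b ∈ V) :
    b = 1 ∨ b = p ∨ b = a ∨ b = p * a := by
  classical
  have hza : p * a ∈ V := mul_mem hp.1 ha.1
  have hinv : p⁻¹ = p := inv_eq_self (D.sqV p hp.1)
  have hfin : Finite V := Nat.finite_of_card_ne_zero (by rw [D.cardV]; norm_num)
  have h1 : ({1, p, a, p * a} : Set G) ⊆ (V : Set G) := by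
    intro x hx
    rcases hx with rfl | rfl | rfl | rfl
    · exact one_mem _
    · exact hp.1
    · exact ha.1
    · exact hza
  have n1 : (1 : G) ≠ p := Ne.symm hp.2
  have n2 : (1 : G) ≠ a := Ne.symm ha.2
  have n3 : (1 : G) ≠ p * a := by
    intro e
    exact hap (by rw [← inv_eq_of_mul_eq_one_right e.symm, hinv])
  have n4 : p ≠ a := Ne.symm hap
  have n5 : p ≠ p * a := by
    intro e
    exact ha.2 (left_eq_mul.mp e)
  have n6 : a ≠ p * a := by
    intro e
    exact hp.2 (right_eq_mul.mp e)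
  have h2 : ({1, p, a, p * a} : Set G).ncard = 4 := by
    rw [Set.ncard_insert_of_notMem, Set.ncard_insert_of_notMem, Set.ncard_pair n6]
    · simp only [Set.mem_insert_iff, Set.mem_singleton_iff]; push Not; exact ⟨n4, n5⟩
    · simp only [Set.mem_insert_iff, Set.mem_singleton_iff]; push Not; exact ⟨n1, n2, n3⟩
  have h3 : (V : Set G).ncard = 4 := by
    rw [← D.cardV]; rfl
  have h4 := Set.eq_of_subset_of_ncard_le h1 (by rw [h2, h3]) (Set.toFinite _)
  have h5 : b ∈ ({1, p, a, p * a} : Set G) := by rw [h4]; exact hb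
  exact h5

/-- the four elements of `V` -/
theorem cases {a b : G} (ha : a ∈ V) (ha1 : a ≠ 1) (haz : a ≠ z) (hb : b ∈ V) :
    b = 1 ∨ b = z ∨ b = a ∨ b = z * a := D.four ⟨D.zV, D.z1⟩ ⟨ha, ha1⟩ haz hb

omit D in
theorem conj_mem_V {n v : G} (hn : n ∈ normalizer (V : Set G)) (hv : v ∈ V) : n * v * n⁻¹ ∈ V :=
  (mem_normalizer_iff.mp hn v).mp hv

omit D in
theorem conj_mem_V' {n v : G} (hn : n ∈ normalizer (V : Set G)) (hv : v ∈ V) : n⁻¹ * v * n ∈ V := by
  have := conj_mem_V (inv_mem hn) hv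
  rwa [inv_inv] at this

omit D in
theorem conj_pt {n p : G} (hn : n ∈ normalizer (V : Set G)) (hp : Pt V p) : Pt V (n * p * n⁻¹) :=
  ⟨conj_mem_V hn hp.1, fun e => hp.2 (conj_eq_one_iff.mp e)⟩

/-- two ordered pairs of points are conjugate -/
theorem sym {p q p' q' : G} (hp : Pt V p) (hq : Pt V q) (hpq : p ≠ q) (hp' : Pt V p') (hq' : Pt V q')
    (hpq' : p' ≠ q') : ∃ n ∈ normalizer (V : Set G), n * p * n⁻¹ = p' ∧ n * q * n⁻¹ = q' := by
  obtain ⟨n1, hn1, e1⟩ := D.exists_n hp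
  obtain ⟨n2, hn2, e2⟩ := D.exists_n hp'
  have ha : n1⁻¹ * q * n1 ∈ V := conj_mem_V' hn1 hq.1
  have ha1 : n1⁻¹ * q * n1 ≠ 1 := by
    intro e
    apply hq.2
    have : q = n1 * (n1⁻¹ * q * n1) * n1⁻¹ := by group
    rw [this, e]; group
  have haz : n1⁻¹ * q * n1 ≠ z := by
    intro e
    apply hpq
    rw [← e1, ← e]; group
  have hb : n2⁻¹ * q' * n2 ∈ V := conj_mem_V' hn2 hq'.1
  have hb1 : n2⁻¹ * q' * n2 ≠ 1 := by
    intro e
    apply hq'.2
    have : q' = n2 * (n2⁻¹ * q' * n2) * n2⁻¹ := by group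
    rw [this, e]; group
  have hbz : n2⁻¹ * q' * n2 ≠ z := by
    intro e
    apply hpq'
    rw [← e2, ← e]; group
  rcases D.cases ha ha1 haz hb with h | h | h | h
  · exact absurd h hb1
  · exact absurd h hbz
  · refine ⟨n2 * n1⁻¹, mul_mem hn2 (inv_mem hn1), ?_, ?_⟩
    · rw [← e1, ← e2]; group
    · calc n2 * n1⁻¹ * q * (n2 * n1⁻¹)⁻¹ = n2 * (n1⁻¹ * q * n1) * n2⁻¹ := by group
        _ = q' := by rw [← h]; group
  · obtain ⟨s, hs, hsz, v, hv, hsv⟩ := D.swap
    have hsa : s * (n1⁻¹ * q * n1) * s⁻¹ = z * (n1⁻¹ * q * n1) := by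
      rcases D.cases ha ha1 haz (conj_mem_V hs ha) with h' | h' | h' | h'
      · exact absurd (conj_eq_one_iff.mp h') ha1
      · exfalso
        apply haz
        have : n1⁻¹ * q * n1 = s⁻¹ * (s * (n1⁻¹ * q * n1) * s⁻¹) * s := by group
        rw [this, h']
        have : z = s * z * s⁻¹ := hsz.symm
        nth_rewrite 1 [this]; group
      · exfalso
        apply hsv
        rcases D.cases ha ha1 haz hv with h'' | h'' | h'' | h''
        · rw [h'']; group
        · rw [h'', hsz]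
        · rw [h'', h']
        · rw [h'']
          calc s * (z * (n1⁻¹ * q * n1)) * s⁻¹ = (s * z * s⁻¹) * (s * (n1⁻¹ * q * n1) * s⁻¹) := by group
            _ = z * (n1⁻¹ * q * n1) := by rw [hsz, h']
      · exact h'
    refine ⟨n2 * s * n1⁻¹, mul_mem (mul_mem hn2 hs) (inv_mem hn1), ?_, ?_⟩
    · rw [← e1, ← e2]
      calc n2 * s * n1⁻¹ * (n1 * z * n1⁻¹) * (n2 * s * n1⁻¹)⁻¹ = n2 * (s * z * s⁻¹) * n2⁻¹ := by group
        _ = n2 * z * n2⁻¹ := by rw [hsz]
    · calc n2 * s * n1⁻¹ * q * (n2 * s * n1⁻¹)⁻¹ = n2 * (s * (n1⁻¹ * q * n1) * s⁻¹) * n2⁻¹ := by group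
        _ = q' := by rw [hsa, ← h]; group

/-- the configuration of the three points -/
theorem tri [Finite G] (hG : IsCharacteristicTwoType G) :
    Tri V (Uf V W z) (fun p => centralizer ({p} : Set G)) where
  cardV := D.cardV
  sqV := D.sqV
  cardU p hp := by
    obtain ⟨n, hn, e⟩ := D.exists_n hp
    rw [D.Uf_eq hn e, card_cj, D.cardW]
  sqU p hp u hu := by
    obtain ⟨n, hn, e⟩ := D.exists_n hp
    rw [D.Uf_eq hn e] at hu
    obtain ⟨w, hw, rfl⟩ := hu
    change n * w * n⁻¹ * (n * w * n⁻¹) = 1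
    have h1 := D.sqW w hw
    calc n * w * n⁻¹ * (n * w * n⁻¹) = n * (w * w) * n⁻¹ := by group
      _ = 1 := by rw [h1]; group
  V_le p hp := by
    obtain ⟨n, hn, e⟩ := D.exists_n hp
    rw [D.Uf_eq hn e, ← cj_eq_of_mem_normalizer hn]
    exact cj_mono D.VW
  C_le p hp := le_rfl
  C_norm p hp := by
    obtain ⟨n, hn, e⟩ := D.exists_n hp
    intro c hc
    rw [mem_normalizer_iff_cj, D.Uf_eq hn e]
    have h1 : n⁻¹ * c * n ∈ centralizer ({z} : Set G) := by
      rw [mem_centralizer_singleton_iff] at hc ⊢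
      rw [← e] at hc
      calc n⁻¹ * c * n * z = n⁻¹ * (c * (n * z * n⁻¹)) * n := by group
        _ = z * (n⁻¹ * c * n) := by rw [hc]; group
    have h2 := cj_eq_of_mem_normalizer (D.CW h1)
    calc cj c (cj n W) = cj (n * (n⁻¹ * c * n)) W := by rw [cj_cj]; congr 1; group
      _ = cj n (cj (n⁻¹ * c * n) W) := (cj_cj _ _ _).symm
      _ = cj n W := by rw [h2]
  le_C p hp := inf_le_right
  sym p q p' q' hp hq hpq hp' hq' hpq' := D.sym hp hq hpq hp' hq' hpq'
  conjU n hn p hp := by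
    obtain ⟨m, hm, e⟩ := D.exists_n hp
    rw [D.Uf_eq hm e, cj_cj, D.Uf_eq (mul_mem hn hm) (by rw [← e]; group)]
  conjC n hn p hp := cj_centralizer_singleton n p
  idx p hp := by
    obtain ⟨n, hn, e⟩ := D.exists_n hp
    have h1 := D.idx
    rw [← relIndex_cj n, cj_kst, cj_centralizer_singleton, e, ← D.Uf_eq hn e] at h1
    exact h1
  nc p q hp hq hpq := by
    obtain ⟨n, hn, e⟩ := D.exists_n hp
    obtain ⟨m, hm, e'⟩ := D.exists_n hq
    obtain ⟨a, ha, b, hb, hab⟩ := D.nc (n⁻¹ * m) (mul_mem (inv_mem hn) hm) (by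
      intro h
      apply hpq
      calc p = n * z * n⁻¹ := e.symm
        _ = n * (n⁻¹ * m * z * (n⁻¹ * m)⁻¹) * n⁻¹ := by rw [h]
        _ = m * z * m⁻¹ := by group
        _ = q := e')
    refine ⟨n * a * n⁻¹, ?_, m * b * m⁻¹, ?_, fun h => hab ?_⟩
    · rw [D.Uf_eq hn e]; exact conj_mem_cj ha
    · rw [D.Uf_eq hm e']; exact conj_mem_cj hb
    · calc a * (n⁻¹ * m * b * (n⁻¹ * m)⁻¹) = n⁻¹ * ((n * a * n⁻¹) * (m * b * m⁻¹)) * n := by group
        _ = n⁻¹ * ((m * b * m⁻¹) * (n * a * n⁻¹)) * n := by rw [h]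
        _ = n⁻¹ * m * b * (n⁻¹ * m)⁻¹ * a := by group
  nonloc p hp R hR h1 hnV := by
    have hzp : centralizer ({z} : Set G) ≤ normalizer (R : Set G) := by
      obtain ⟨n, hn, e⟩ := D.exists_n hp
      intro c hc
      have h3 : n * c * n⁻¹ ∈ centralizer ({p} : Set G) := by
        rw [mem_centralizer_singleton_iff] at hc ⊢
        rw [← e]
        calc n * c * n⁻¹ * (n * z * n⁻¹) = n * (c * z) * n⁻¹ := by group
          _ = n * z * n⁻¹ * (n * c * n⁻¹) := by rw [hc]; group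
      have h4 := h1 h3
      have h5 := mul_mem (mul_mem (inv_mem (hnV hn)) h4) (hnV hn)
      have e2 : n⁻¹ * (n * c * n⁻¹) * n = c := by group
      rwa [e2] at h5
    exact D.nonloc R hR hzp hnV
  alt := by
    refine Or.inr ⟨fun _ _ => rfl, fun R hR hR1 => ?_⟩
    have h1 : IsTwoLocal (normalizer (R : Set G)) := ⟨R, hR, hR1, rfl⟩
    have h2 : R ≤ o2 (normalizer (R : Set G)) :=
      Block.le_o2 hR le_normalizer le_rfl
    intro g hg
    refine inf_centralizer_o2_le hG h1 ⟨?_, hg⟩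
    exact centralizer_le_normalizer _ (centralizer_le h2 hg)
  char2 p hp := inf_centralizer_o2_le hG (isTwoLocal_centralizer (D.sqV p hp.1) hp.2)

/-- the final configuration of `Classification/TitsFin` -/
theorem finHyp [Finite G] (hG : IsCharacteristicTwoType G) (h2 : ∀ N : Subgroup G, N.index ≠ 2) {p : G}
    (hp : Pt V p) (hpz : p ≠ z) : FinHyp z p := by
  have h := D.tri hG
  have hz : Pt V z := ⟨D.zV, D.z1⟩
  rcases TriTen.card_K h hz with hK | hK
  · exact TriFin.finHyp h hz hp hpz.symm rfl hK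
  · exact (TriB.caseB_false h hz hp hpz.symm hK rfl h2).elim

theorem exists_pt : ∃ p, Pt V p ∧ p ≠ z := by
  by_contra hcon
  push Not at hcon
  have h1 : V ≤ zpowers z := by
    intro v hv
    by_cases hv1 : v = 1
    · rw [hv1]; exact one_mem _
    · rw [hcon v ⟨hv, hv1⟩]; exact mem_zpowers z
  have h3 : Nat.card (zpowers z) ≤ 2 := by
    rw [Nat.card_zpowers]
    exact orderOf_le_of_pow_eq_one (by norm_num) (by rw [pow_two]; exact D.zz)
  have hfin : Finite (zpowers z) := by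
    have : IsOfFinOrder z := isOfFinOrder_iff_pow_eq_one.mpr ⟨2, by norm_num, by rw [pow_two]; exact D.zz⟩
    exact this.finite_zpowers
  have h2 := Subgroup.card_le_of_le h1
  rw [D.cardV] at h2
  omega

/-- **The Tits group from its amalgam.** -/
theorem isoTits [Finite G] (hG : IsCharacteristicTwoType G) (h2 : ∀ N : Subgroup G, N.index ≠ 2) :
    Cfsg.Lie.IsoTits G := by
  obtain ⟨p, hp, hpz⟩ := D.exists_pt
  exact TitsIso.isoTits_of TitsIso.indexLe (D.finHyp hG h2 hp hpz) hG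

/-- **The Tits group from its amalgam.** -/
theorem known [Finite G] (hG : IsCharacteristicTwoType G) (h2 : ∀ N : Subgroup G, N.index ≠ 2) :
    IsKnownSimple' G := by
  obtain ⟨p, hp, hpz⟩ := D.exists_pt
  exact TitsIso.known_of TitsIso.indexLe (D.finHyp hG h2 hp hpz) hG

end Dat

end Cfsg.Agent.Omega.TitsAmal

end

section


/-!
# NO-3S, `q = 2`, `n = 1` (helper311's text #13963), section 6: the type `T5` ends in the Tits group

`Fam` for the FULL family (`cf p = C_G(p)`), `F` a normal 5-subgroup of `H = C_G(z)/Q_z`, `d ∈ F` inverted by `a`, `|[M,d]| = 16`,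
`F` normalizes `⟨d⟩`, and `|K'_z| ≤ 64` for some subfamily: `|W_z| = 32`, `|H| = 20`, `G` is the Tits group.
-/

set_option autoImplicit false
set_option linter.unusedSectionVars false

namespace Cfsg.Agent.Omega.NO3S.Fit

open Subgroup Cfsg Cfsg.Agent.ZN Cfsg.Agent.MinSimple.Geo Cfsg.Agent.Omega.CaseL
open Cfsg.Agent.ZN.Block (conj_mem_of_normalizer conj_mem_of_normalizer' le_normalizer_of_forall
  mem_normalizer_of)

universe u

variable {G : Type u} [Group G] {T V : Subgroup G} {z : G}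
variable {M H : Type u} [AddCommGroup M] [Group H] [DistribMulAction H M]

/-- the full family -/
abbrev cfull (p : G) : Subgroup G := centralizer ({p} : Set G)

theorem kst_eq {cf : G → Subgroup G} (_ : Fam T V z cf) (hc : cf z = centralizer ({z} : Set G)) :
    TitsAmal.Tri.kst (centralizer ({z} : Set G)) (ww V cf z) z = qq V cf z := by
  ext c
  constructor
  · rintro ⟨h1, h2, h3, -⟩
    refine ⟨by rw [hc]; exact h1, h2, h3⟩
  · intro hq
    refine ⟨?_, hq.2.1, hq.2.2, fun w hw => ?_⟩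
    · have := hq.1
      rwa [hc] at this
    · have := (inv_mem hq).2.2 w hw
      rwa [inv_inv] at this

/-- the full family with `|M| = 16`, `|H| = 20` gives the data of the Tits amalgam -/
theorem Fam.dat_of [Finite G] (h : Fam T V z cfull) (R : MRep V cfull z M H) (hM : Nat.card M = 16)
    (hH : Nat.card H = 20) : TitsAmal.Dat V (ww V cfull z) z where
  cardV := h.ln.card_V
  sqV := h.ln.sq
  zV := h.ln.z_mem
  z1 := h.ln.z_ne
  trans := h.ln.trans
  swap := by
    obtain ⟨q, -, hq, hq1⟩ := h.f1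
    refine ⟨q, h.qq_le_normalizer h.ln.z_mem hq, conj_eq_of_comm (h.qq_p hq), ?_⟩
    by_contra hcon
    push Not at hcon
    apply hq1
    rw [mem_centralizer_iff]
    intro v hv
    exact (comm_of_conj_eq (hcon v hv)).symm
  cardW := by rw [R.card_ww h, hM]
  sqW := h.sqz
  VW := h.V_le
  CW := h.cf_norm
  idx := by
    right
    have e : TitsAmal.Tri.kst (centralizer ({z} : Set G)) (ww V cfull z) z = qq V cfull z := kst_eq h rfl
    rw [e]
    have hker : R.hom.ker = (qq V cfull z).subgroupOf (cfull z) := by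
      ext c
      rw [MonoidHom.mem_ker, mem_subgroupOf]
      exact R.phi_ker c c.2
    have h1 : (qq V cfull z).relIndex (cfull z) = Nat.card H := by
      rw [relIndex, ← hker, index_ker, MonoidHom.range_eq_top.mpr (R.hom_surj h), Subgroup.card_top]
    rw [← hH]
    exact h1
  nc := by
    intro n hn hnz
    obtain ⟨a, ha, b, hb, hab⟩ := h.nc' h.ln.z_mem h.ln.z_ne (h.conj_pt hn h.ln.z_mem)
      (Fam.conj_ne h.ln.z_ne) hnz
    rw [← h.cj_ww hn h.ln.z_mem h.ln.z_ne] at hb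
    refine ⟨a, ha, n⁻¹ * b * n, mem_cj.mp hb, ?_⟩
    have e : n * (n⁻¹ * b * n) * n⁻¹ = b := by group
    rw [e]
    exact hab
  nonloc := fun _ hR h1 h2 => h.nl hR h2 h1

/-- **section 6** -/
theorem Fam.five_known [Finite G] [Finite M] [Finite H] [FaithfulSMul H M] (h : Fam T V z cfull)
    (R : MRep V cfull z M H) {y : G} (hy : y ∈ V) (hy1 : y ≠ 1) (hyz : y ≠ z) {F : Subgroup H} {a d : H}
    (ha : a * a = 1) (hd : d ^ 5 = 1) (hi : a * d * a⁻¹ = d⁻¹) (hbr : Nat.card (Abs.br M d) = 16)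
    (hv0 : R.pi y ∈ Abs.br M d) (hdF : d ∈ F) (hF : IsPGroup 5 F) (hFn : F.Normal)
    (hFd : ∀ f ∈ F, f * d * f⁻¹ ∈ zpowers d) (h2 : ∃ x : H, x * d * x⁻¹ = d ^ 2)
    (pl : ∀ f : H, f * a = a * f → f • R.pi y = R.pi y)
    {C : Subgroup G} (hC : normalizer (V : Set G) ⊓ centralizer ({z} : Set G) ≤ C)
    (hC' : C ≤ centralizer ({z} : Set G)) (h64 : Nat.card (kk V (subf V z C) z) ≤ 64)
    (h2' : ∀ N : Subgroup G, N.index ≠ 2) : IsKnownSimple' G := by
  have two : ∀ m : M, m + m = 0 := R.two h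
  have hd1 : d ≠ 1 := by
    rintro rfl
    rw [Abs.br_one] at hbr
    simp at hbr
  -- `|M| ≤ 32`
  have hle : ww V cfull z ≤ kk V (subf V z C) z := by
    intro w hw
    rw [kk, Fam.ww_subf hC, mem_centralizer_iff]
    intro x hx
    exact h.ab x (wf_mono hC' hx) w hw
  have hM32 : Nat.card M ≤ 32 := by
    have h1 := Subgroup.card_le_of_le hle
    rw [R.card_ww h] at h1
    omega
  obtain ⟨htop, hFz⟩ := Abs.top_of_card_le two hM32 hd hd1 hbr hdF hF hFn hFd hv0 (R.span h hy hy1 hyz)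
  have hM : Nat.card M = 16 := by
    rw [htop, AddSubgroup.card_top] at hbr
    exact hbr
  obtain ⟨hfx, -⟩ := Abs.fix_four (M := M) two hM ha hd hd1 hi
  have hn : ∀ x : H, x * d * x⁻¹ ∈ zpowers d := by
    intro x
    have := hFn.conj_mem d hdF x
    rwa [hFz] at this
  have hH := Abs.card_eq_twenty two hM ha hd hd1 hfx.symm.le (R.v0_ne h hy hy1 hyz) pl hn h2
  exact (h.dat_of R hM hH).known h.ln.charTwo h2'

/-- a simple group with a four-subgroup has no subgroup of index 2 -/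
theorem index_ne_two [Finite G] (hs : IsSimpleGroup G) (hV : Nat.card V = 4) (N : Subgroup G) :
    N.index ≠ 2 := by
  intro hN
  have hn : N.Normal := normal_of_index_eq_two hN
  rcases hn.eq_bot_or_eq_top with e | e
  · rw [e, index_bot] at hN
    have := V.card_subgroup_dvd_card
    rw [hV, hN] at this
    omega
  · rw [e, index_top] at hN
    omega

end Cfsg.Agent.Omega.NO3S.Fit

end
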