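import Mathlib
import Cfsg.Agent.Mrg.Omega.TitsAmal.Tri
import Cfsg.Agent.Mrg.Omega.TitsAmal.TriQK
import Cfsg.Agent.Classification.TitsFin.TriBO
import Cfsg.Agent.Classification.TitsFin.TwoFEnd
import Cfsg.Agent.Classification.TitsFin.Mod16
import Cfsg.Agent.Classification.TitsFin.TriBSec

section


/-!
# Case B of the Tits end: `|K_p| = 64` (groups of `²F₄(2)` type)

Blueprint `P21-FIN-helper531.md`, section B, in the shortened form of helper117: (B1), (B2), (B3') and the input of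
`TwoFEnd.Data.false_of`.
-/

set_option autoImplicit false
set_option linter.style.haveILetI false

namespace Cfsg.Agent.Omega.TitsAmal.TriB

open Subgroup Cfsg Cfsg.Agent.ZN Cfsg.Agent.MinSimple.Geo
open Cfsg.Agent.Classification.TitsFin
open Cfsg.Agent.Omega.TitsAmal.Tri (Pt kst K Q cj_kst kst_le)
open Cfsg.Agent.Omega.TitsAmal.TriAct Cfsg.Agent.Omega.TitsAmal.TriQK
open Cfsg.Agent.Omega.TitsAmal.TriTen
open Cfsg.Agent.MinSimple.VModule (oddGen)
open Cfsg.Agent.ZN.Block (card_mul_relIndex' mul_mem_of_relIndex_two)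

universe u

variable {G : Type u} [Group G] {V : Subgroup G} {U C : G → Subgroup G} {p q : G}

theorem cj_K (h : Tri V U C) {n : G} (hn : n ∈ normalizer (V : Set G)) (hp : Pt V p) :
    cj n (K U p) = K U (n * p * n⁻¹) := by
  ext x
  rw [mem_cj, mem_centralizer_iff, mem_centralizer_iff, ← h.conjU n hn p hp]
  constructor
  · rintro hx _ ⟨u, hu, rfl⟩
    change n * u * n⁻¹ * x = x * (n * u * n⁻¹)
    have h1 := hx u hu
    calc n * u * n⁻¹ * x = n * (u * (n⁻¹ * x * n)) * n⁻¹ := by group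
      _ = n * (n⁻¹ * x * n * u) * n⁻¹ := by rw [h1]
      _ = x * (n * u * n⁻¹) := by group
  · intro hx u hu
    have h1 := hx (n * u * n⁻¹) ⟨u, hu, rfl⟩
    calc u * (n⁻¹ * x * n) = n⁻¹ * (n * u * n⁻¹ * x) * n := by group
      _ = n⁻¹ * (x * (n * u * n⁻¹)) * n := by rw [h1]
      _ = n⁻¹ * x * n * u := by group

theorem cj_Q (h : Tri V U C) {n : G} (hn : n ∈ normalizer (V : Set G)) (hp : Pt V p) :
    cj n (Q U C p) = Q U C (n * p * n⁻¹) := by
  rw [cj_kst, h.conjC n hn p hp, h.conjU n hn p hp]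

theorem card_K_all (h : Tri V U C) (hp : Pt V p) (hq : Pt V q) (hK : Nat.card ↥(K U p) = 64) :
    Nat.card ↥(K U q) = 64 := by
  by_cases hpq : p = q
  · rw [← hpq]; exact hK
  · obtain ⟨n, hn, h1, -⟩ := h.exists_swap hp hq hpq
    rw [← h1, ← cj_K h hn hp, card_cj]
    exact hK

theorem relIndex_U (h : Tri V U C) (hp : Pt V p) (hK : Nat.card ↥(K U p) = 64) :
    (U p).relIndex (K U p) = 2 := by
  have h1 := card_mul_relIndex' (h.U_le_K hp)
  rw [hK, h.cardU p hp] at h1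
  omega

theorem mul_mem_U (h : Tri V U C) (hp : Pt V p) (hK : Nat.card ↥(K U p) = 64) {k l : G} (hk : k ∈ K U p)
    (hl : l ∈ K U p) (hkU : k ∉ U p) (hlU : l ∉ U p) : k * l ∈ U p :=
  mul_mem_of_relIndex_two (relIndex_U h hp hK) hk hl hkU hlU

theorem exists_k (h : Tri V U C) (hp : Pt V p) (hK : Nat.card ↥(K U p) = 64) : ∃ k ∈ K U p, k ∉ U p := by
  by_contra hcon
  push Not at hcon
  have h1 := relIndex_U h hp hK
  have h2 : K U p ≤ U p := hcon
  rw [relIndex_eq_one.mpr h2] at h1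
  omega

theorem K_comm (h : Tri V U C) (hp : Pt V p) (hK : Nat.card ↥(K U p) = 64) {k l : G} (hk : k ∈ K U p)
    (hl : l ∈ K U p) : k * l = l * k := by
  by_cases hkU : k ∈ U p
  · exact mem_centralizer_iff.mp hl k hkU
  by_cases hlU : l ∈ U p
  · exact (mem_centralizer_iff.mp hk l hlU).symm
  have h1 := mem_centralizer_iff.mp hk _ (mul_mem_U h hp hK hk hl hkU hlU)
  -- `k l k = k k l`
  have h2 : k * (l * k) = k * (k * l) := by rw [← mul_assoc, h1]
  exact (mul_left_cancel h2).symm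

theorem conj_mem_K (h : Tri V U C) (hp : Pt V p) {c k : G} (hc : c ∈ C p) (hk : k ∈ K U p) :
    c * k * c⁻¹ ∈ K U p := Block.conj_mem_of_normalizer (h.C_le_normK hp) hc hk

theorem conj_mem_Q (h : Tri V U C) (hp : Pt V p) {c k : G} (hc : c ∈ C p) (hk : k ∈ Q U C p) :
    c * k * c⁻¹ ∈ Q U C p := Block.conj_mem_of_normalizer (h.C_le_normQ hp) hc hk

theorem comm_K_C (h : Tri V U C) (hp : Pt V p) (hK : Nat.card ↥(K U p) = 64) {k c : G} (hk : k ∈ K U p)
    (hc : c ∈ C p) : c * k * c⁻¹ * k⁻¹ ∈ U p := by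
  by_cases hkU : k ∈ U p
  · exact mul_mem (h.conj_memU hp hc hkU) (inv_mem hkU)
  · refine mul_mem_U h hp hK (conj_mem_K h hp hc hk) (inv_mem hk) (fun h1 => hkU ?_)
      (fun h1 => hkU (inv_mem_iff.mp h1))
    have h2 := h.conj_memU' hp hc h1
    have e : c⁻¹ * (c * k * c⁻¹) * c = k := by group
    rwa [e] at h2

variable [Finite G]

theorem pow_five (h : Tri V U C) (hp : Pt V p) {f : G} (hf : IsF U C p f) : f ^ 5 = 1 := by
  have h1 := isPGroup_Q h hp
  obtain ⟨k, hk⟩ := (IsPGroup.iff_orderOf.mp h1) ⟨f ^ 5, hf.pow⟩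
  rw [Subgroup.orderOf_mk] at hk
  have h2 : Odd (orderOf (f ^ 5)) := hf.odd.of_dvd_nat (orderOf_pow_dvd 5)
  rw [hk] at h2
  rcases Nat.eq_zero_or_pos k with rfl | hk0
  · rw [pow_zero] at hk
    exact orderOf_eq_one_iff.mp hk
  · exact absurd h2 (by
      rw [Nat.not_odd_iff_even]
      exact (Nat.even_pow.mpr ⟨even_two, hk0.ne'⟩))

/-- `f` centralises an element of `K_p - U_p` -/
theorem exists_kf (h : Tri V U C) (hp : Pt V p) (hK : Nat.card ↥(K U p) = 64) {f : G} (hf : IsF U C p f) :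
    ∃ k ∈ K U p, k ∉ U p ∧ f * k * f⁻¹ = k := by
  classical
  haveI : Fact (Nat.Prime 5) := ⟨by norm_num⟩
  have f5 := pow_five h hp hf
  let S : Type u := {k : G // k ∈ K U p ∧ k ∉ U p}
  let F : Function.End S := fun k => ⟨f * k * f⁻¹, conj_mem_K h hp hf.mem k.2.1, fun h1 => k.2.2 (by
    have h2 := h.conj_memU' hp hf.mem h1
    have e : f⁻¹ * (f * (k : G) * f⁻¹) * f = k := by group
    rwa [e] at h2)⟩
  have hF : ∀ (n : ℕ) (k : S), ((F ^ n) k : G) = f ^ n * k * (f ^ n)⁻¹ := by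
    intro n
    induction n with
    | zero =>
      intro k
      rw [pow_zero, pow_zero, one_mul, inv_one, mul_one]
      rfl
    | succ n ih =>
      intro k
      rw [pow_succ]
      change ((F ^ n) (F k) : G) = _
      rw [ih]
      change f ^ n * (f * k * f⁻¹) * (f ^ n)⁻¹ = _
      rw [pow_succ]
      group
  have h1 : F ^ 5 ^ 1 = 1 := by
    funext k
    apply Subtype.ext
    rw [pow_one, hF, f5, one_mul, inv_one, mul_one]
    rfl
  haveI : Fintype S := Fintype.ofFinite S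
  have h2 := Equiv.Perm.card_fixedPoints_modEq h1
  have h3 : Fintype.card S = 32 := by
    have e : Nat.card S = Nat.card ↥(K U p) - Nat.card ↥(U p) := by
      have h4 : ({k : G | k ∈ K U p ∧ k ∉ U p}) = (K U p : Set G) \ (U p : Set G) := rfl
      have h5 := Set.ncard_sdiff (s := (U p : Set G)) (t := (K U p : Set G)) (h.U_le_K hp) (Set.toFinite _)
      rw [← h4] at h5
      exact h5
    rw [← Nat.card_eq_fintype_card, e, hK, h.cardU p hp]
  rw [h3] at h2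
  by_contra hcon
  push Not at hcon
  have h4 : Fintype.card (Function.fixedPoints F) = 0 := by
    rw [Fintype.card_eq_zero_iff]
    refine ⟨fun k => hcon k.1.1 k.1.2.1 k.1.2.2 (congrArg Subtype.val k.2)⟩
  rw [h4] at h2
  exact absurd h2 (by decide)

/-- (B1) -/
theorem rho (h : Tri V U C) (hp : Pt V p) (hK : Nat.card ↥(K U p) = 64) {k x : G} (hk : k ∈ K U p)
    (hkU : k ∉ U p) (hx : x ∈ Q U C p) (hxk : x * k * x⁻¹ = k ∨ x * k * x⁻¹ = p * k) : x ∈ K U p := by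
  obtain ⟨f, hf⟩ := exists_isF h hp
  have hpp := h.pp hp
  have hpK : ∀ w ∈ K U p, w * p = p * w := fun w hw =>
    (mem_centralizer_iff.mp hw p (h.V_le p hp hp.1)).symm
  set N : Subgroup G := kst (Q U C p) (K U p) p with hN
  have hNinv : ∀ b ∈ N, f * b * f⁻¹ ∈ N := by
    intro b hb
    have h1 : cj f N = N := by
      rw [hN, cj_kst, cj_eq_of_mem_normalizer (h.C_le_normQ hp hf.mem),
        cj_eq_of_mem_normalizer (h.C_le_normK hp hf.mem), h.c_comm hp hf.mem, mul_inv_cancel_right]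
    rw [← h1]
    exact conj_mem_cj hb
  have hNQ : N ≤ Q U C p := kst_le _ _ _
  have hKN : K U p ≤ N := by
    intro l hl
    refine ⟨h.K_le_Q hp hl, hpK l hl, fun w hw => ?_, fun w hw => ?_⟩
    · rw [K_comm h hp hK hl hw, mul_inv_cancel_right, mul_inv_cancel]; exact one_mem _
    · rw [mul_assoc l⁻¹, K_comm h hp hK hw hl, inv_mul_cancel_left, mul_inv_cancel]; exact one_mem _
  have hxN : x ∈ N := by
    have hxp := h.c_comm hp hx.1
    have key : ∀ w ∈ K U p, x * w * x⁻¹ = w ∨ x * w * x⁻¹ = p * w := by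
      intro w hw
      by_cases hwU : w ∈ U p
      · exact ((h.mem_Q_iff hp).mp hx).2 w hwU
      · -- `w = k * u`
        have hu : k⁻¹ * w ∈ U p := mul_mem_U h hp hK (inv_mem hk) hw (fun h1 => hkU (inv_mem_iff.mp h1)) hwU
        have e : w = k * (k⁻¹ * w) := by group
        have e2 : x * w * x⁻¹ = (x * k * x⁻¹) * (x * (k⁻¹ * w) * x⁻¹) := by group
        rcases hxk with h1 | h1 <;> rcases ((h.mem_Q_iff hp).mp hx).2 _ hu with h2 | h2
        · left; rw [e2, h1, h2, ← e]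
        · right
          rw [e2, h1, h2, ← mul_assoc, hpK k hk]
          group
        · right; rw [e2, h1, h2, mul_assoc, ← e]
        · left
          rw [e2, h1, h2]
          calc p * k * (p * (k⁻¹ * w)) = p * (k * p) * (k⁻¹ * w) := by group
            _ = (p * p) * w := by rw [hpK k hk]; group
            _ = w := by rw [hpp, one_mul]
    refine ⟨hx, hxp, fun w hw => ?_, fun w hw => ?_⟩
    · rcases key w hw with h1 | h1
      · rw [h1, mul_inv_cancel]; exact one_mem _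
      · rw [h1, mul_inv_cancel_right]; exact mem_zpowers p
    · have hw' := conj_mem_K h hp (inv_mem hx.1) hw
      rw [inv_inv] at hw'
      have e : x⁻¹ * w * x * w⁻¹ = (x * (x⁻¹ * w * x) * x⁻¹ * (x⁻¹ * w * x)⁻¹)⁻¹ := by group
      rw [e]
      refine inv_mem ?_
      rcases key _ hw' with h1 | h1
      · rw [h1, mul_inv_cancel]; exact one_mem _
      · rw [h1, mul_inv_cancel_right]; exact mem_zpowers p
  rcases irred h hp hf hKN hNQ hNinv with h1 | h1
  · rw [← h1]; exact hxN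
  · exfalso
    obtain ⟨k0, hk0, hk0U, hfk0⟩ := exists_kf h hp hK hf
    have hQk0 : ∀ y ∈ Q U C p, y⁻¹ * k0 * y = k0 ∨ y⁻¹ * k0 * y = p * k0 := by
      intro y hy
      rw [← h1] at hy
      rcases (mem_zpowers_iff_of_mul_self hpp).mp (hy.2.2.2 k0 hk0) with e | e
      · left; exact mul_inv_eq_one.mp e
      · right; exact mul_inv_eq_iff_eq_mul.mp e
    have hfp := h.c_comm hp hf.mem
    have hfi : ∀ n : ℕ, f ^ n * k0 * (f ^ n)⁻¹ = k0 := by
      intro n
      induction n with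
      | zero => simp
      | succ n ih =>
        have e : f ^ (n + 1) * k0 * (f ^ (n + 1))⁻¹ = f ^ n * (f * k0 * f⁻¹) * (f ^ n)⁻¹ := by
          rw [pow_succ]; group
        rw [e, hfk0, ih]
    have hfpi : ∀ n : ℕ, f ^ n * p * (f ^ n)⁻¹ = p := by
      intro n
      have h2 : Commute (f ^ n) p := (show Commute f p from hfp).pow_left n
      rw [h2.eq, mul_inv_cancel_right]
    have hodd : ∀ g ∈ C p, Odd (orderOf g) → g * k0 = k0 * g := by
      intro g hg ho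
      obtain ⟨y, hy, n, rfl⟩ := exists_conj_of_odd h hp hf hg ho
      have h2 : f ^ n * (y⁻¹ * k0 * y) * (f ^ n)⁻¹ = y⁻¹ * k0 * y := by
        rcases hQk0 y hy with h3 | h3
        · rw [h3, hfi]
        · rw [h3]
          have e : f ^ n * (p * k0) * (f ^ n)⁻¹ = (f ^ n * p * (f ^ n)⁻¹) * (f ^ n * k0 * (f ^ n)⁻¹) := by group
          rw [e, hfi, hfpi]
      calc y * f ^ n * y⁻¹ * k0 = y * (f ^ n * (y⁻¹ * k0 * y) * (f ^ n)⁻¹) * f ^ n * y⁻¹ := by group
        _ = y * (y⁻¹ * k0 * y) * f ^ n * y⁻¹ := by rw [h2]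
        _ = k0 * (y * f ^ n * y⁻¹) := by group
    have hX : ∀ x ∈ oddGen (C p), x * k0 = k0 * x := by
      have h2 : oddGen (C p) ≤ centralizer ({k0} : Set G) := by
        unfold oddGen
        rw [closure_le]
        rintro g ⟨hg, ho⟩
        exact mem_centralizer_singleton_iff.mpr (hodd g hg ho)
      exact fun x hx => mem_centralizer_singleton_iff.mp (h2 hx)
    rcases eq_of_cent_X h hp hk0 hX with h2 | h2
    · exact hk0U (by rw [h2]; exact one_mem _)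
    · exact hk0U (by rw [h2]; exact h.V_le p hp hp.1)

end Cfsg.Agent.Omega.TitsAmal.TriB

end

section


/-!
# Case B of the Tits end, (B2): the squares of the elements of `Q_p` are in `U_p`
-/

set_option autoImplicit false
set_option linter.style.haveILetI false

namespace Cfsg.Agent.Omega.TitsAmal.TriB

open Subgroup Cfsg Cfsg.Agent.ZN Cfsg.Agent.MinSimple.Geo
open Cfsg.Agent.Classification.TitsFin
open Cfsg.Agent.Omega.TitsAmal.Tri (Pt kst K Q cj_kst kst_le)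
open Cfsg.Agent.Omega.TitsAmal.TriAct Cfsg.Agent.Omega.TitsAmal.TriQK
open Cfsg.Agent.Omega.TitsAmal.TriTen Cfsg.Agent.Classification.TitsFin.TriBSec
open Cfsg.Agent.MinSimple.VModule (oddGen)
open Cfsg.Agent.ZN.Block (card_mul_relIndex' mul_mem_of_relIndex_two)

universe u

variable {G : Type u} [Group G] {V : Subgroup G} {U C : G → Subgroup G} {p q : G}

theorem sq_mem_K (h : Tri V U C) (hp : Pt V p) {x : G} (hx : x ∈ Q U C p) : x * x ∈ K U p := by
  rw [mem_centralizer_iff]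
  intro u hu
  have hxp := h.c_comm hp hx.1
  have hpp := h.pp hp
  have h1 : x * x * u * (x * x)⁻¹ = u := by
    have e : x * x * u * (x * x)⁻¹ = x * (x * u * x⁻¹) * x⁻¹ := by group
    rw [e]
    rcases ((h.mem_Q_iff hp).mp hx).2 u hu with h2 | h2
    · rw [h2, h2]
    · rw [h2]
      have e2 : x * (p * u) * x⁻¹ = (x * p) * x⁻¹ * (x * u * x⁻¹) := by group
      rw [e2, hxp, mul_inv_cancel_right, h2, ← mul_assoc, hpp, one_mul]
  calc u * (x * x) = (x * x * u * (x * x)⁻¹) * (x * x) := by rw [h1]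
    _ = x * x * u := by group

theorem comm_Q_mem_K (h : Tri V U C) (hp : Pt V p) {x y : G} (hx : x ∈ Q U C p) (hy : y ∈ Q U C p) :
    x * y * x⁻¹ * y⁻¹ ∈ K U p :=
  TriBO.comm_mem (Q := Q U C p) (fun _ hx => sq_mem_K h hp hx) (fun _ hc _ hu => conj_mem_K h hp hc.1 hu) hx hy

variable [Finite G]

/-- `f` acts nontrivially on `Q_p / K_p` -/
theorem f_nontrivial (h : Tri V U C) (hp : Pt V p) (hq : Pt V q) (hpq : p ≠ q) {f : G} (hf : IsF U C p f) :
    ∃ x ∈ Q U C p, f * x * f⁻¹ * x⁻¹ ∉ K U p := by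
  by_contra hcon
  push Not at hcon
  have hqU : q ∈ U p := h.V_le p hp hq.1
  obtain ⟨c, hc, hcq⟩ := exists_move h hp hqU hq.2 (Ne.symm hpq)
  have f5 := pow_five h hp hf
  have hfp := h.c_comm hp hf.mem
  have hcp := h.c_comm hp hc.1
  have hpp := h.pp hp
  have hfiC : ∀ i : ℕ, f ^ i ∈ C p := fun i => pow_mem hf.mem i
  have hfiU : ∀ i : ℕ, f ^ i * q * (f ^ i)⁻¹ ∈ U p := fun i => h.conj_memU hp (hfiC i) hqU
  -- `c` moves all `q ^ (f ^ i)`
  have hci : ∀ i : ℕ, c * (f ^ i * q * (f ^ i)⁻¹) * c⁻¹ = p * (f ^ i * q * (f ^ i)⁻¹) := by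
    intro i
    induction i with
    | zero => simpa using hcq
    | succ n ih =>
      set w := f ^ n * q * (f ^ n)⁻¹ with hw
      have e0 : f ^ (n + 1) * q * (f ^ (n + 1))⁻¹ = f * w * f⁻¹ := by
        rw [hw, pow_succ']; group
      rw [e0]
      have hwU : w ∈ U p := hfiU n
      have hfw : f * w * f⁻¹ ∈ U p := h.conj_memU hp hf.mem hwU
      have hk := hcon c hc
      -- `f c f⁻¹ = k c`
      set k := f * c * f⁻¹ * c⁻¹ with hkdef
      have e1 : c * (f * w * f⁻¹) * c⁻¹ = k⁻¹ * (f * (c * w * c⁻¹) * f⁻¹) * k := by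
        rw [hkdef]; group
      rw [e1, ih]
      have e2 : f * (p * w) * f⁻¹ = p * (f * w * f⁻¹) := by
        calc f * (p * w) * f⁻¹ = (f * p) * w * f⁻¹ := by group
          _ = p * (f * w * f⁻¹) := by rw [hfp]; group
      rw [e2]
      have h3 := mem_centralizer_iff.mp hk _ (mul_mem (h.V_le p hp hp.1) hfw)
      rw [mul_assoc, h3, inv_mul_cancel_left]
  set z := q * (f ^ 1 * q * (f ^ 1)⁻¹) * (f ^ 2 * q * (f ^ 2)⁻¹) * (f ^ 3 * q * (f ^ 3)⁻¹) *
    (f ^ 4 * q * (f ^ 4)⁻¹) with hz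
  have hzU : z ∈ U p := mul_mem (mul_mem (mul_mem (mul_mem hqU (hfiU 1)) (hfiU 2)) (hfiU 3)) (hfiU 4)
  have hfz : f * z * f⁻¹ = z := by
    have e6 : f * z * f⁻¹ = (f ^ 1 * q * (f ^ 1)⁻¹) * (f ^ 2 * q * (f ^ 2)⁻¹) * (f ^ 3 * q * (f ^ 3)⁻¹) *
        (f ^ 4 * q * (f ^ 4)⁻¹) * (f ^ 5 * q * (f ^ 5)⁻¹) := by
      rw [hz]; group
    have e5 : f ^ 5 * q * (f ^ 5)⁻¹ = q := by rw [f5]; group
    rw [e6, e5, hz]
    have h4 := h.commU hp (mul_mem (mul_mem (mul_mem (hfiU 1) (hfiU 2)) (hfiU 3)) (hfiU 4)) hqU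
    rw [h4]
    simp only [mul_assoc]
  have hz1 : c * z * c⁻¹ = z := by
    rcases IsF.fixed h hp hf hzU (Or.inl hfz) with h1 | h1
    · rw [h1]; group
    · rw [h1, hcp, mul_inv_cancel_right]
  have hz2 : c * z * c⁻¹ = p * z := by
    have e : c * z * c⁻¹ = (c * q * c⁻¹) * (c * (f ^ 1 * q * (f ^ 1)⁻¹) * c⁻¹) *
        (c * (f ^ 2 * q * (f ^ 2)⁻¹) * c⁻¹) * (c * (f ^ 3 * q * (f ^ 3)⁻¹) * c⁻¹) *
        (c * (f ^ 4 * q * (f ^ 4)⁻¹) * c⁻¹) := by
      rw [hz]; group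
    rw [e, hcq, hci 1, hci 2, hci 3, hci 4, hz]
    have hpc : ∀ w ∈ U p, ∀ v : G, w * (p * v) = p * (w * v) := fun w hw v => by
      rw [← mul_assoc, h.commU hp hw (h.V_le p hp hp.1), mul_assoc]
    have hpp' : ∀ v : G, p * (p * v) = v := fun v => by rw [← mul_assoc, hpp, one_mul]
    simp only [mul_assoc]
    simp only [hpc _ hqU, hpp']
    have g1 := hpc _ (hfiU 1)
    have g2 := hpc _ (hfiU 2)
    have g3 := hpc _ (hfiU 3)
    simp only [mul_assoc] at g1 g2 g3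
    have g1' : ∀ v, f ^ 1 * (q * ((f ^ 1)⁻¹ * (p * v))) = p * (f ^ 1 * (q * ((f ^ 1)⁻¹ * v))) := g1
    have g2' : ∀ v, f ^ 2 * (q * ((f ^ 2)⁻¹ * (p * v))) = p * (f ^ 2 * (q * ((f ^ 2)⁻¹ * v))) := g2
    have g3' : ∀ v, f ^ 3 * (q * ((f ^ 3)⁻¹ * (p * v))) = p * (f ^ 3 * (q * ((f ^ 3)⁻¹ * v))) := g3
    rw [g1', g2', g3', g1', g2', g1', hpp']
    exact hpc _ hqU _
  rw [hz1] at hz2
  exact hp.2 (right_eq_mul.mp hz2)

/-- `f` acts without fixed points on `Q_p / K_p` -/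
theorem fix_Q (h : Tri V U C) (hp : Pt V p) (hq : Pt V q) (hpq : p ≠ q) {f : G} (hf : IsF U C p f) {x : G}
    (hx : x ∈ Q U C p) (hfx : f * x * f⁻¹ * x⁻¹ ∈ K U p) : x ∈ K U p := by
  obtain ⟨x0, hx0, hx0'⟩ := f_nontrivial h hp hq hpq hf
  let N : Subgroup G :=
    { carrier := {x | x ∈ Q U C p ∧ f * x * f⁻¹ * x⁻¹ ∈ K U p}
      mul_mem' := by
        rintro a b ⟨ha, ha'⟩ ⟨hb, hb'⟩
        refine ⟨mul_mem ha hb, ?_⟩
        have h1 := mul_mem ha' (conj_mem_K h hp ha.1 hb')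
        have e : f * a * f⁻¹ * a⁻¹ * (a * (f * b * f⁻¹ * b⁻¹) * a⁻¹) = f * (a * b) * f⁻¹ * (a * b)⁻¹ := by
          group
        rwa [e] at h1
      one_mem' := ⟨one_mem _, by simp⟩
      inv_mem' := by
        rintro a ⟨ha, ha'⟩
        refine ⟨inv_mem ha, ?_⟩
        have h1 := conj_mem_K h hp (inv_mem ha.1) (inv_mem ha')
        have e : a⁻¹ * (f * a * f⁻¹ * a⁻¹)⁻¹ * a⁻¹⁻¹ = f * a⁻¹ * f⁻¹ * a⁻¹⁻¹ := by group
        rwa [e] at h1 }
  have hKN : K U p ≤ N := fun k hk =>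
    ⟨h.K_le_Q hp hk, mul_mem (conj_mem_K h hp hf.mem hk) (inv_mem hk)⟩
  have hNQ : N ≤ Q U C p := fun x hx => hx.1
  have hinv : ∀ b ∈ N, f * b * f⁻¹ ∈ N := by
    rintro b ⟨hb, hb'⟩
    refine ⟨conj_mem_Q h hp hf.mem hb, ?_⟩
    have h1 := conj_mem_K h hp hf.mem hb'
    have e : f * (f * b * f⁻¹ * b⁻¹) * f⁻¹ = f * (f * b * f⁻¹) * f⁻¹ * (f * b * f⁻¹)⁻¹ := by group
    rwa [e] at h1
  rcases irred h hp hf hKN hNQ hinv with h1 | h1
  · rw [← h1]; exact ⟨hx, hfx⟩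
  · exfalso
    rw [← h1] at hx0
    exact hx0' hx0.2

/-- `K_q ⊓ Q_p` has index at most 2 in `K_q` -/
theorem card_KQ (h : Tri V U C) (hp : Pt V p) (hq : Pt V q) (hK : Nat.card ↥(K U q) = 64) :
    32 ≤ Nat.card ↥(K U q ⊓ Q U C p) := by
  have key : ∀ a ∈ K U q, ∀ b ∈ K U q, a ∉ Q U C p → b ∉ Q U C p → a * b ∈ Q U C p := by
    intro a ha b hb haQ hbQ
    have hsq : ∀ k ∈ K U q, k * k ∈ Q U C p := by
      intro k hk
      have h1 : k * k ∈ U p := by
        rcases sq_K h hq hk with e | e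
        · rw [e]; exact one_mem _
        · rw [e]; exact h.V_le p hp hq.1
      exact h.K_le_Q hp (h.U_le_K hp h1)
    obtain ⟨n, hn⟩ := (isPGroup_K h hq) ⟨a * b, mul_mem ha hb⟩
    refine mul_mem_Q h hp (h.K_le_C hp hq ha) (h.K_le_C hp hq hb) (hsq a ha) (hsq b hb) haQ hbQ (n := n) ?_
    have h2 := congrArg Subtype.val hn
    have h3 : (a * b) ^ 2 ^ n = 1 := h2
    rw [h3]; exact one_mem _
  set D := (K U q ⊓ Q U C p) with hD
  have h1 := card_mul_relIndex' (show D ≤ K U q from inf_le_left)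
  rw [hK] at h1
  have h2 : D.relIndex (K U q) ≤ 2 := by
    by_cases hall : ∀ a ∈ K U q, a ∈ Q U C p
    · have : D.relIndex (K U q) = 1 := relIndex_eq_one.mpr fun a ha => ⟨ha, hall a ha⟩
      omega
    · push Not at hall
      obtain ⟨a, ha, haQ⟩ := hall
      have : (D.subgroupOf (K U q)).index = 2 := by
        rw [Subgroup.index_eq_two_iff]
        refine ⟨⟨a, ha⟩, fun b => ?_⟩
        by_cases hb : (b : G) ∈ Q U C p
        · right
          refine ⟨mem_subgroupOf.mpr ⟨b.2, hb⟩, fun h3 => haQ ?_⟩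
          have h4 := (mem_subgroupOf.mp h3).2
          have e : (b : G)⁻¹ * ((b * ⟨a, ha⟩ : K U q) : G) = a := by
            push_cast; group
          rw [← e]
          exact mul_mem (inv_mem hb) h4
        · left
          refine ⟨mem_subgroupOf.mpr ⟨mul_mem b.2 ha, key _ b.2 _ ha hb haQ⟩, fun h3 => hb ?_⟩
          exact (mem_subgroupOf.mp h3).2
      exact this.le
  nlinarith

/-- (B2) -/
theorem sq_mem_U (h : Tri V U C) (hp : Pt V p) (hq : Pt V q) (hpq : p ≠ q) (hK : Nat.card ↥(K U p) = 64)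
    {x : G} (hx : x ∈ Q U C p) : x * x ∈ U p := by
  have hKq := card_K_all h hp hq hK
  obtain ⟨f, hf⟩ := exists_isF h hp
  have f5 := pow_five h hp hf
  obtain ⟨t, htU, htQ⟩ := h.exists_t hp hq hpq
  have htC : t ∈ C p := h.U_le_C hp hq htU
  have htt := h.sqU q hq t htU
  have hKQ := h.K_le_Q hp
  obtain ⟨M, instM, μ, hμ⟩ := exists_section (Q U C p) (K U p)
    (fun x hx y hy => comm_Q_mem_K h hp hx hy)
  have hM : Nat.card M = 16 := by rw [hμ.card]; exact relIndex_K h hp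
  haveI : Finite M := Nat.finite_of_card_ne_zero (by rw [hM]; norm_num)
  have sq : ∀ m : M, m * m = 1 := by
    intro m
    obtain ⟨x, hx, rfl⟩ := hμ.surj m
    rw [← hμ.mul x hx x hx, hμ.ker _ (mul_mem hx hx)]
    exact sq_mem_K h hp hx
  have aut : ∀ c ∈ C p, ∃ s : MulAut M, ∀ x ∈ Q U C p, s (μ x) = μ (c * x * c⁻¹) := by
    intro c hc
    refine hμ.exists_aut (fun x hx => conj_mem_Q h hp hc hx) (fun x hx => ?_)
      (fun x hx => conj_mem_K h hp hc hx) (fun x hx => ?_)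
    · have := conj_mem_Q h hp (inv_mem hc) hx
      rwa [inv_inv] at this
    · have := conj_mem_K h hp (inv_mem hc) hx
      rwa [inv_inv] at this
  obtain ⟨F, hF⟩ := aut f hf.mem
  obtain ⟨T, hT⟩ := aut t htC
  have hFn : ∀ (n : ℕ), ∀ x ∈ Q U C p, (F ^ n) (μ x) = μ (f ^ n * x * (f ^ n)⁻¹) := by
    intro n
    induction n with
    | zero => intro x hx; rw [pow_zero, pow_zero, one_mul, inv_one, mul_one]; rfl
    | succ n ih =>
      intro x hx
      rw [pow_succ, Cfsg.Agent.Classification.TitsFin.Mod16.mul_apply, hF x hx, ih _ (conj_mem_Q h hp hf.mem hx)]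
      congr 1
      rw [pow_succ]
      group
  have F5 : F ^ 5 = 1 := by
    ext m
    obtain ⟨x, hx, rfl⟩ := hμ.surj m
    rw [hFn 5 x hx, f5, one_mul, inv_one, mul_one]
    rfl
  have F1 : F ≠ 1 := by
    intro h1
    obtain ⟨x0, hx0, hx0'⟩ := f_nontrivial h hp hq hpq hf
    apply hx0'
    have h2 := hF x0 hx0
    rw [h1] at h2
    have h3 : μ x0 = μ (f * x0 * f⁻¹) := h2
    rw [eq_comm, hμ.eq_iff (conj_mem_Q h hp hf.mem hx0) hx0] at h3
    have h4 := conj_mem_K h hp hx0.1 (inv_mem h3)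
    have e : x0 * ((f * x0 * f⁻¹)⁻¹ * x0)⁻¹ * x0⁻¹ = f * x0 * f⁻¹ * x0⁻¹ := by group
    rwa [e] at h4
  have TT : T * T = 1 := by
    ext m
    obtain ⟨x, hx, rfl⟩ := hμ.surj m
    rw [Cfsg.Agent.Classification.TitsFin.Mod16.mul_apply, hT x hx, hT _ (conj_mem_Q h hp htC hx)]
    have e : t * (t * x * t⁻¹) * t⁻¹ = (t * t) * x * (t * t)⁻¹ := by group
    rw [e, htt, one_mul, inv_one, mul_one]
    rfl
  have Tinv : T⁻¹ = T := inv_eq_of_mul_eq_one_left TT
  have htinv : t⁻¹ = t := inv_eq_of_mul_eq_one_left htt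
  have TFT : T * F * T⁻¹ = F⁻¹ := by
    rw [eq_inv_iff_mul_eq_one, Tinv]
    ext m
    obtain ⟨x, hx, rfl⟩ := hμ.surj m
    have h1 := conj_mem_Q h hp hf.mem hx
    have h2 := conj_mem_Q h hp htC h1
    have h3 := conj_mem_Q h hp hf.mem h2
    rw [Cfsg.Agent.Classification.TitsFin.Mod16.mul_apply, Cfsg.Agent.Classification.TitsFin.Mod16.mul_apply, Cfsg.Agent.Classification.TitsFin.Mod16.mul_apply, hF x hx, hT _ h1, hF _ h2, hT _ h3]
    have hy : t * f * t⁻¹ * f ∈ Q U C p := IsF.inv_of_sq h hp hf htC (by rw [htt]; exact one_mem _) htQ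
    rw [MulAut.one_apply, hμ.eq_iff (conj_mem_Q h hp htC h3) hx]
    have h4 := comm_Q_mem_K h hp hy (inv_mem hx)
    have e : (t * (f * (t * (f * x * f⁻¹) * t⁻¹) * f⁻¹) * t⁻¹)⁻¹ * x =
        (t * f * t * f) * x⁻¹ * (t * f * t * f)⁻¹ * x⁻¹⁻¹ := by group
    rw [e]
    rwa [htinv] at h4
  -- `fx T` is the image of `K_q ⊓ Q_p`
  have himg : ∀ m ∈ Cfsg.Agent.Classification.TitsFin.Mod16.fx T, ∃ a ∈ K U q ⊓ Q U C p, μ a = m := by
    let ψ : ↥(K U q ⊓ Q U C p) →* M :=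
      { toFun := fun a => μ a
        map_one' := hμ.one
        map_mul' := fun a b => hμ.mul _ a.2.2 _ b.2.2 }
    have h1 : ψ.range ≤ Cfsg.Agent.Classification.TitsFin.Mod16.fx T := by
      rintro _ ⟨a, rfl⟩
      rw [Cfsg.Agent.Classification.TitsFin.Mod16.mem_fx]
      change T (μ a) = μ a
      rw [hT _ a.2.2, mem_centralizer_iff.mp a.2.1 t htU, mul_inv_cancel_right]
    have h2 : Nat.card ψ.ker ≤ 8 := by
      rw [← card_E h hp hq hpq]
      refine Nat.card_le_card_of_injective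
        (fun a : ψ.ker => (⟨a.1.1, ?_⟩ : ↥(U p ⊓ U q))) ?_
      · rw [← K_inf_K h hp hq hpq]
        exact ⟨(hμ.ker _ a.1.2.2).mp a.2, a.1.2.1⟩
      · intro a b hab
        have h9 : (a.1.1 : G) = b.1.1 := congrArg (fun z : ↥(U p ⊓ U q) => (z : G)) hab
        exact Subtype.ext (Subtype.ext h9)
    have h3 : Nat.card ψ.range * Nat.card ψ.ker = Nat.card ↥(K U q ⊓ Q U C p) := by
      rw [← Subgroup.index_ker ψ, mul_comm]
      exact Subgroup.card_mul_index _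
    have h4 := card_KQ h hp hq hKq
    have h5 := Cfsg.Agent.Classification.TitsFin.Mod16.card_fx hM sq F5 F1 TT TFT
    have h6 : ψ.range = Cfsg.Agent.Classification.TitsFin.Mod16.fx T := by
      refine Subgroup.eq_of_le_of_card_ge h1 ?_
      rw [h5]
      nlinarith
    intro m hm
    rw [← h6] at hm
    obtain ⟨a, ha⟩ := hm
    exact ⟨a, a.2, ha⟩
  obtain ⟨k, -, m, hm, hkm⟩ := Cfsg.Agent.Classification.TitsFin.Mod16.spread hM sq F5 F1 TT TFT (μ x)
  obtain ⟨a, ha, rfl⟩ := himg m hm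
  rw [hFn k a ha.2] at hkm
  have haQ := ha.2
  have hfk : f ^ k ∈ C p := pow_mem hf.mem k
  have hb := conj_mem_Q h hp hfk haQ
  rw [hμ.eq_iff hb hx] at hkm
  set b := f ^ k * a * (f ^ k)⁻¹ with hbdef
  have haa : a * a ∈ U p := by
    rcases sq_K h hq ha.1 with e | e
    · rw [e]; exact one_mem _
    · rw [e]; exact h.V_le p hp hq.1
  have hbb : b * b ∈ U p := by
    have h1 := h.conj_memU hp hfk haa
    have e : f ^ k * (a * a) * (f ^ k)⁻¹ = b * b := by rw [hbdef]; group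
    rwa [e] at h1
  set κ := b⁻¹ * x with hκ
  have e : x * x = b * b * ((b⁻¹ * κ * b * κ⁻¹) * (κ * κ)) := by rw [hκ]; group
  rw [e]
  refine mul_mem hbb (mul_mem ?_ ?_)
  · have h1 := comm_K_C h hp hK hkm (inv_mem hb.1)
    rwa [inv_inv] at h1
  · rcases sq_K h hp hkm with e | e
    · rw [e]; exact one_mem _
    · rw [e]; exact h.V_le p hp hp.1

end Cfsg.Agent.Omega.TitsAmal.TriB

end

section


/-!
# Case B of the Tits end, (B3'): the subgroup `N` of index 2 in `C_p`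
-/

set_option autoImplicit false
set_option linter.style.haveILetI false
set_option linter.unusedSectionVars false

namespace Cfsg.Agent.Omega.TitsAmal.TriB

open Subgroup Cfsg Cfsg.Agent.ZN Cfsg.Agent.MinSimple.Geo
open Cfsg.Agent.Classification.TitsFin
open Cfsg.Agent.Omega.TitsAmal.Tri (Pt kst K Q cj_kst kst_le)
open Cfsg.Agent.Omega.TitsAmal.TriAct Cfsg.Agent.Omega.TitsAmal.TriQK
open Cfsg.Agent.Omega.TitsAmal.TriTen Cfsg.Agent.Classification.TitsFin.TriBSec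
open Cfsg.Agent.MinSimple.VModule (oddGen)
open Cfsg.Agent.ZN.Block (card_mul_relIndex' mul_mem_of_relIndex_two)

universe u

variable {G : Type u} [Group G] [Finite G] {V : Subgroup G} {U C : G → Subgroup G} {p q : G}

theorem U_le_Q (h : Tri V U C) (hp : Pt V p) : U p ≤ Q U C p := (h.U_le_K hp).trans (h.K_le_Q hp)

/-- an element of `Q_p ⊓ C_G(V)` of order 4 modulo `Q_q`, moving `E` -/
theorem exists_x (h : Tri V U C) (hp : Pt V p) (hq : Pt V q) (hpq : p ≠ q) :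
    ∃ x ∈ Q U C p, x ∈ centralizer (V : Set G) ∧ x * x ∉ Q U C q := by
  obtain ⟨c, hc, hcV, e, he, hce⟩ := exists_move_E h hp hq hpq
  have hep : e * p = p * e := h.commU hp he.1 (h.V_le p hp hp.1)
  -- an element of `Q_q` does not move `e` to `p e`
  have key : ∀ y ∈ Q U C q, y * e * y⁻¹ ≠ p * e := by
    intro y hy h1
    rcases ((h.mem_Q_iff hq).mp hy).2 e he.2 with h2 | h2
    · rw [h2] at h1
      exact hp.2 (right_eq_mul.mp h1)
    · rw [h2] at h1
      exact hpq (mul_right_cancel h1).symm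
  refine ⟨c, hc, hcV, fun hcc => ?_⟩
  have hcQ : c ∉ Q U C q := fun h1 => key c h1 hce
  obtain ⟨t, ht, htQ⟩ := h.exists_t hq hp hpq.symm
  have htt := h.sqU p hp t ht
  have htV := h.U_le_centV hp ht
  obtain ⟨n, hn⟩ := (isPGroup_centV h hp) ⟨c * t, mul_mem hcV htV⟩
  have hn' : (c * t) ^ 2 ^ n = 1 := congrArg Subtype.val hn
  have h1 : c * t ∈ Q U C q := mul_mem_Q h hq (h.centV_le hq hcV) (h.centV_le hq htV) hcc
    (by rw [htt]; exact one_mem _) hcQ htQ (n := n) (by rw [hn']; exact one_mem _)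
  refine key _ h1 ?_
  have hte : t * e = e * t := h.commU hp ht he.1
  calc c * t * e * (c * t)⁻¹ = c * (t * e) * t⁻¹ * c⁻¹ := by group
    _ = c * e * c⁻¹ := by rw [hte]; group
    _ = p * e := hce

/-- multipliers -/
def Mul (U C : G → Subgroup G) (p f c : G) (a : ℕ) : Prop := c ∈ C p ∧ c * f * c⁻¹ * (f ^ a)⁻¹ ∈ Q U C p

theorem Mul.mul (h : Tri V U C) (hp : Pt V p) {f c d : G} (hf : IsF U C p f) {a b : ℕ} (hc : Mul U C p f c a)
    (hd : Mul U C p f d b) : Mul U C p f (c * d) (a * b) := by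
  refine ⟨mul_mem hc.1 hd.1, ?_⟩
  -- `d f d⁻¹ = y f ^ b`, `c f c⁻¹ = z f ^ a`
  set y := d * f * d⁻¹ * (f ^ b)⁻¹ with hy
  set z := c * f * c⁻¹ * (f ^ a)⁻¹ with hz
  have h1 : c * y * c⁻¹ ∈ Q U C p := conj_mem_Q h hp hc.1 hd.2
  have h2 : ∀ n : ℕ, (z * f ^ a) ^ n * (f ^ (a * n))⁻¹ ∈ Q U C p := by
    intro n
    induction n with
    | zero => simp
    | succ n ih =>
      have h3 : f ^ (a * n) * z * (f ^ (a * n))⁻¹ ∈ Q U C p :=
        conj_mem_Q h hp (pow_mem hf.mem _) hc.2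
      have e : (z * f ^ a) ^ (n + 1) * (f ^ (a * (n + 1)))⁻¹ =
          ((z * f ^ a) ^ n * (f ^ (a * n))⁻¹) * (f ^ (a * n) * z * (f ^ (a * n))⁻¹) := by
        rw [pow_succ, mul_add, mul_one, pow_add]
        group
      rw [e]
      exact mul_mem ih h3
  have e1 : z * f ^ a = c * f * c⁻¹ := by rw [hz]; group
  have h3 := mul_mem h1 (h2 b)
  have e : c * y * c⁻¹ * ((z * f ^ a) ^ b * (f ^ (a * b))⁻¹) = c * d * f * (c * d)⁻¹ * (f ^ (a * b))⁻¹ := by
    rw [e1, conj_pow, hy]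
    group
  rwa [e] at h3

theorem Mul.congr (h : Tri V U C) (hp : Pt V p) {f c : G} (hf : IsF U C p f) {a b : ℕ} (hc : Mul U C p f c a)
    (hab : a % 5 = b % 5) : Mul U C p f c b := by
  have f5 := pow_five h hp hf
  have e : ∀ n : ℕ, f ^ n = f ^ (n % 5) := by
    intro n
    conv_lhs => rw [← Nat.div_add_mod n 5, pow_add, pow_mul, f5, one_pow, one_mul]
  refine ⟨hc.1, ?_⟩
  rw [e b, ← hab, ← e a]
  exact hc.2

theorem Mul.pow (h : Tri V U C) (hp : Pt V p) {f c : G} (hf : IsF U C p f) {a : ℕ} (hc : Mul U C p f c a)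
    (n : ℕ) : Mul U C p f (c ^ n) (a ^ n) := by
  induction n with
  | zero => exact ⟨by simp, by simp⟩
  | succ n ih =>
    rw [pow_succ, pow_succ]
    exact Mul.mul h hp hf ih hc

theorem exists_Mul (h : Tri V U C) (hp : Pt V p) {f c : G} (hf : IsF U C p f) (hc : c ∈ C p) :
    ∃ a, (a = 1 ∨ a = 2 ∨ a = 3 ∨ a = 4) ∧ Mul U C p f c a := by
  obtain ⟨k, h1, h2, h3⟩ := IsF.normal h hp hf hc
  exact ⟨k, by omega, hc, h3⟩

/-- `C(f mod Q_p) = ⟨f⟩ Q_p` -/
theorem cent_f (h : Tri V U C) (hp : Pt V p) {f c : G} (hf : IsF U C p f) (hc : Mul U C p f c 1) :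
    ∃ j : ℕ, f ^ j * c ∈ Q U C p := by
  have f5 := pow_five h hp hf
  obtain ⟨A, hAC, hQA, fA, hA⟩ := TriBO.exists_ext (A := Q U C p) (C := C p) (s := f) (kst_le _ _ _) hf.mem
    (n := 5) (by norm_num) (by rw [f5]; exact one_mem _) (fun a ha => conj_mem_Q h hp hf.mem ha)
  obtain ⟨a, m, hm, hn⟩ := Nat.exists_eq_pow_mul_and_not_dvd (n := orderOf c) (orderOf_pos c).ne' 2
    (by norm_num)
  have hmodd : Odd m := Nat.not_even_iff_odd.mp fun h1 => hm h1.two_dvd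
  -- the 2-part
  have h1 : c ^ m ∈ Q U C p := by
    have hc1 := Mul.pow h hp hf hc m
    rw [one_pow] at hc1
    refine IsF.mem_Q_of_comm h hp hf hc1.1 (n := a) ?_ ?_
    · rw [← pow_mul, mul_comm, ← hn, pow_orderOf_eq_one]; exact one_mem _
    · have := hc1.2
      rwa [pow_one] at this
  -- the odd part
  have h2 : c ^ 2 ^ a ∈ A := by
    have ho : Odd (orderOf (c ^ 2 ^ a)) := by
      have h3 : orderOf (c ^ 2 ^ a) = m := by
        rw [orderOf_pow, hn, Nat.gcd_eq_right (Dvd.intro _ rfl), Nat.mul_div_cancel_left _ (by positivity)]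
      rw [h3]; exact hmodd
    obtain ⟨k, -, hk⟩ := IsF.of_odd h hp hf (pow_mem hc.1 _) ho
    have h3 := mul_mem (hQA hk) (pow_mem fA k)
    rwa [inv_mul_cancel_right] at h3
  have h3 : c ∈ A := by
    have hcop : Nat.gcd m (2 ^ a) = 1 := Nat.Coprime.pow_right a (Nat.coprime_two_right.mpr hmodd)
    have e : (1 : ℤ) = m * Nat.gcdA m (2 ^ a) + (2 ^ a : ℕ) * Nat.gcdB m (2 ^ a) := by
      rw [← Nat.gcd_eq_gcd_ab, hcop]; rfl
    have e2 : c = (c ^ m) ^ (Nat.gcdA m (2 ^ a)) * (c ^ 2 ^ a) ^ (Nat.gcdB m (2 ^ a)) := by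
      conv_lhs => rw [← zpow_one c, e, zpow_add, zpow_mul, zpow_mul, zpow_natCast, zpow_natCast]
    rw [e2]
    exact mul_mem (zpow_mem (hQA h1) _) (zpow_mem h2 _)
  exact ((hA c).mp h3).2

/-- a 2-element with multiplier 1 is in `Q_p` -/
theorem mem_Q_of_Mul_one (h : Tri V U C) (hp : Pt V p) {f c : G} (hf : IsF U C p f) (hc : Mul U C p f c 1)
    {n : ℕ} (hn : c ^ 2 ^ n ∈ Q U C p) : c ∈ Q U C p := by
  refine IsF.mem_Q_of_comm h hp hf hc.1 hn ?_
  have := hc.2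
  rwa [pow_one] at this

/-- if `s ^ 4 = 1` and `s * s ∉ Q_p`, then the multiplier of `s` is 2 or 3 -/
theorem Mul_of_sq (h : Tri V U C) (hp : Pt V p) {f s : G} (hf : IsF U C p f) (hs : s ∈ C p) (s4 : s ^ 4 = 1)
    (hss : s * s ∉ Q U C p) : Mul U C p f s 2 ∨ Mul U C p f s 3 := by
  have h4 : s ^ 2 ^ 2 ∈ Q U C p := by
    rw [show 2 ^ 2 = 4 from rfl, s4]; exact one_mem _
  have h4' : (s * s) ^ 2 ^ 1 ∈ Q U C p := by
    rw [← pow_two, ← pow_mul, show 2 * 2 ^ 1 = 4 from rfl, s4]; exact one_mem _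
  obtain ⟨a, rfl | rfl | rfl | rfl, ha⟩ := exists_Mul h hp hf hs
  · exfalso
    have h1 := mem_Q_of_Mul_one h hp hf ha h4
    exact hss (mul_mem h1 h1)
  · exact Or.inl ha
  · exact Or.inr ha
  · exfalso
    have h1 := (Mul.mul h hp hf ha ha).congr h hp hf (b := 1) (by norm_num)
    exact hss (mem_Q_of_Mul_one h hp hf h1 h4')

theorem cover (h : Tri V U C) (hp : Pt V p) {f s : G} (hf : IsF U C p f) (hs : s ∈ C p) (s4 : s ^ 4 = 1)
    (hss : s * s ∉ Q U C p) {c : G} (hc : c ∈ C p) : ∃ i j : ℕ, f ^ j * s ^ i * c ∈ Q U C p := by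
  have key : ∃ i, Mul U C p f (s ^ i * c) 1 := by
    obtain ⟨a, ha, hca⟩ := exists_Mul h hp hf hc
    rcases Mul_of_sq h hp hf hs s4 hss with hs2 | hs3
    · rcases ha with rfl | rfl | rfl | rfl
      · exact ⟨0, (Mul.mul h hp hf (Mul.pow h hp hf hs2 0) hca).congr h hp hf (by norm_num)⟩
      · exact ⟨3, (Mul.mul h hp hf (Mul.pow h hp hf hs2 3) hca).congr h hp hf (by norm_num)⟩
      · exact ⟨1, (Mul.mul h hp hf (Mul.pow h hp hf hs2 1) hca).congr h hp hf (by norm_num)⟩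
      · exact ⟨2, (Mul.mul h hp hf (Mul.pow h hp hf hs2 2) hca).congr h hp hf (by norm_num)⟩
    · rcases ha with rfl | rfl | rfl | rfl
      · exact ⟨0, (Mul.mul h hp hf (Mul.pow h hp hf hs3 0) hca).congr h hp hf (by norm_num)⟩
      · exact ⟨1, (Mul.mul h hp hf (Mul.pow h hp hf hs3 1) hca).congr h hp hf (by norm_num)⟩
      · exact ⟨3, (Mul.mul h hp hf (Mul.pow h hp hf hs3 3) hca).congr h hp hf (by norm_num)⟩
      · exact ⟨2, (Mul.mul h hp hf (Mul.pow h hp hf hs3 2) hca).congr h hp hf (by norm_num)⟩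
  obtain ⟨i, hi⟩ := key
  obtain ⟨j, hj⟩ := cent_f h hp hf hi
  exact ⟨i, j, by rwa [← mul_assoc] at hj⟩

/-- (B3') -/
theorem exists_N (h : Tri V U C) (hp : Pt V p) (hq : Pt V q) (hpq : p ≠ q) (hK : Nat.card ↥(K U p) = 64) :
    ∃ N : Subgroup G, N ≤ C p ∧ U p ≤ N ∧ U q ≤ N ∧ (∀ k ∈ K U p, k ∈ N → k ∈ U p) ∧
      (∃ k ∈ K U p, k ∉ N ∧ ∀ c ∈ C p, c ∈ N ∨ c * k ∈ N) := by
  have hKq := card_K_all h hp hq hK
  obtain ⟨f, hf⟩ := exists_isF h hp
  have f5 := pow_five h hp hf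
  obtain ⟨k, hk, hkU⟩ := exists_k h hp hK
  have hsqQ : ∀ x ∈ Q U C p, x * x ∈ U p := fun x hx => sq_mem_U h hp hq hpq hK hx
  have hkk : ∀ l ∈ K U p, l ∈ U p ∨ l * k ∈ U p := by
    intro l hl
    by_cases hlU : l ∈ U p
    · exact Or.inl hlU
    · exact Or.inr (mul_mem_U h hp hK hl hk hlU hkU)
  obtain ⟨O, hUO, hOQ, hOK, hOk, hOC⟩ := TriBO.exists_O (h.U_le_K hp) (h.K_le_Q hp) (kst_le _ _ _) hsqQ
    (fun c hc u hu => h.conj_memU hp hc hu) (fun c hc u hu => conj_mem_K h hp hc hu)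
    (fun c hc u hu => conj_mem_Q h hp hc hu) hf.mem f5 hk hkk
    (fun x hx hfx => fix_Q h hp hq hpq hf hx (h.U_le_K hp hfx))
    (fun c hc => by
      obtain ⟨m, -, hm⟩ := exists_Mul h hp hf (inv_mem hc)
      refine ⟨m, (f ^ m)⁻¹ * (c⁻¹ * f * c⁻¹⁻¹ * (f ^ m)⁻¹) * (f ^ m)⁻¹⁻¹,
        conj_mem_Q h hp (inv_mem (pow_mem hf.mem m)) hm.2, ?_⟩
      group)
  have hkO : k ∉ O := fun h1 => hkU (hOK k h1 hk)
  have hkQ : k ∈ Q U C p := h.K_le_Q hp hk
  -- `[C, Q] ≤ O`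
  have hCQ : ∀ c ∈ C p, ∀ x ∈ Q U C p, c * x * c⁻¹ * x⁻¹ ∈ O := by
    intro c hc x hx
    rcases hOk x hx with h1 | h1
    · exact mul_mem (hOC c hc x h1) (inv_mem h1)
    · rcases hOk _ (conj_mem_Q h hp hc hx) with h2 | h2
      · have h3 := hOC _ (inv_mem hc) _ h2
        have e : c⁻¹ * (c * x * c⁻¹) * c⁻¹⁻¹ = x := by group
        rw [e] at h3
        exact mul_mem h2 (inv_mem h3)
      · have h3 := mul_mem h2 (inv_mem h1)
        have e : c * x * c⁻¹ * k * (x * k)⁻¹ = c * x * c⁻¹ * x⁻¹ := by group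
        rwa [e] at h3
  -- `F_q ≤ O`
  have hFO : U q ⊓ Q U C p ≤ O := by
    obtain ⟨x, hx, hxV, hxx⟩ := exists_x h hp hq hpq
    have hxx' := hsqQ x hx
    have hxCq := h.centV_le hq hxV
    have hw : ∃ u ∈ U q, x * u * x⁻¹ * u⁻¹ ∉ U p := by
      by_contra hcon
      push Not at hcon
      have h1 : 8 ≤ Nat.card V := by
        refine eight_le h hq (c := x * x) (h.U_le_C hq hp hxx') (n := 1) ?_ hxx hq.1 ?_
        · have h2 := h.sqU p hp _ hxx'
          rw [pow_one, pow_two, h2]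
          exact one_mem _
        · intro u hu
          have h2 := hcon u hu
          set e := x * u * x⁻¹ * u⁻¹ with he
          have h3 : x * x * u * (x * x)⁻¹ * u⁻¹ = (x * e * x⁻¹) * e := by rw [he]; group
          rw [h3]
          have hee := h.sqU p hp e h2
          rcases ((h.mem_Q_iff hp).mp hx).2 e h2 with h4 | h4
          · rw [h4, hee]; exact one_mem _
          · rw [h4, mul_assoc, hee, mul_one]; exact hp.1
      rw [h.cardV] at h1
      omega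
    obtain ⟨u, hu, hw⟩ := hw
    set w := x * u * x⁻¹ * u⁻¹ with hwdef
    have huC := h.U_le_C hp hq hu
    have hwq : w ∈ U q := mul_mem (h.conj_memU hq hxCq hu) (inv_mem hu)
    have hwO : w ∈ O := by
      have h1 := inv_mem (hCQ u huC x hx)
      have e : (u * x * u⁻¹ * x⁻¹)⁻¹ = w := by rw [hwdef]; group
      rwa [e] at h1
    have hidx : (U q ⊓ U p).relIndex (U q ⊓ Q U C p) = 2 := by
      have hle : U q ⊓ U p ≤ U q ⊓ Q U C p := inf_le_inf_left _ (U_le_Q h hp)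
      have h1 := card_mul_relIndex' hle
      rw [card_E h hq hp hpq.symm, card_F h hq hp hpq.symm] at h1
      omega
    intro v hv
    by_cases hvU : v ∈ U p
    · exact hUO hvU
    · have h1 := mul_mem_of_relIndex_two hidx hv (⟨hwq, hOQ hwO⟩ : w ∈ U q ⊓ Q U C p)
        (fun h2 => hvU h2.2) (fun h2 => hw h2.2)
      have h2 := mul_mem (hUO h1.2) (inv_mem hwO)
      rwa [mul_inv_cancel_right] at h2
  -- `s`
  obtain ⟨s, hs, hsV, hss⟩ := exists_x h hq hp hpq.symm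
  have hsC := h.centV_le hp hsV
  have hssU : s * s ∈ U q := sq_mem_U h hq hp hpq.symm hKq hs
  have s4 : s ^ 4 = 1 := by
    have h1 := h.sqU q hq _ hssU
    rw [show (4 : ℕ) = 2 + 2 from rfl, pow_add, pow_two, h1]
  have s2 : ∀ j : ℕ, f ^ j * (s * s) ∉ Q U C p := by
    intro j hj
    -- `s * s` has multiplier 1
    have h1 : Mul U C p f (f ^ j * (s * s)) 1 := by
      refine ⟨hj.1, ?_⟩
      rw [pow_one]
      have h2 := mul_mem hj (conj_mem_Q h hp hf.mem (inv_mem hj))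
      have e : f ^ j * (s * s) * (f * (f ^ j * (s * s))⁻¹ * f⁻¹) =
          f ^ j * (s * s) * f * (f ^ j * (s * s))⁻¹ * f⁻¹ := by group
      rwa [e] at h2
    have h2 : Mul U C p f (f ^ (4 * j)) 1 := by
      refine ⟨pow_mem hf.mem _, ?_⟩
      have e : f ^ (4 * j) * f * (f ^ (4 * j))⁻¹ * (f ^ 1)⁻¹ = 1 := by
        rw [← pow_succ, pow_succ', pow_one]; group
      rw [e]; exact one_mem _
    have h3 := Mul.mul h hp hf h2 h1
    have e : f ^ (4 * j) * (f ^ j * (s * s)) = s * s := by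
      rw [← mul_assoc, ← pow_add, show 4 * j + j = 5 * j by ring, pow_mul, f5, one_pow, one_mul]
    rw [e, mul_one] at h3
    refine hss (mem_Q_of_Mul_one h hp hf h3 (n := 1) ?_)
    rw [pow_one, ← pow_two, ← pow_mul, show 2 * 2 = 4 from rfl, s4]
    exact one_mem _
  obtain ⟨N, hNC, hON, fN, sN, hkN, hNk⟩ := TriBO.exists_N hUO hOQ (kst_le _ _ _) hsqQ hOC
    (fun c hc u hu => conj_mem_Q h hp hc hu) hf.mem f5 hf.notMem
    (fun c hc => by
      obtain ⟨m, -, hm⟩ := exists_Mul h hp hf hc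
      refine ⟨m, (f ^ m)⁻¹ * (c * f * c⁻¹ * (f ^ m)⁻¹) * (f ^ m)⁻¹⁻¹,
        conj_mem_Q h hp (inv_mem (pow_mem hf.mem m)) hm.2, ?_⟩
      group)
    hsC s4 s2 (fun c hc => cover h hp hf hsC s4 hss hc) hkQ hkO hOk
  refine ⟨N, hNC, hUO.trans hON, ?_, ?_, k, hk, hkN, hNk⟩
  · intro v hv
    by_cases hvQ : v ∈ Q U C p
    · exact hON (hFO ⟨hv, hvQ⟩)
    · have h1 := mul_mem_Q_of_mem_U h hp hq hq hv hssU hvQ hss
      have h2 : v * (s * s) ∈ N := hON (hFO ⟨mul_mem hv hssU, h1⟩)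
      have h3 := mul_mem h2 (inv_mem (mul_mem sN sN))
      rwa [mul_inv_cancel_right] at h3
  · intro l hl hlN
    by_contra hlU
    have h1 := hON (hUO (mul_mem_U h hp hK hl hk hlU hkU))
    have h2 := mul_mem (inv_mem hlN) h1
    rw [inv_mul_cancel_left] at h2
    exact hkN h2

end Cfsg.Agent.Omega.TitsAmal.TriB

end
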